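import Groth.Agent.H98.Canon.HullSoc
import Groth.Agent.H98.GrStar.LocCohGr
import Groth.Agent.H98.GrStar.EndDeg
import Groth.Agent.H98.GrStar.Ess

set_option autoImplicit false
universe u

/-!
# If `*H^n_m(R) ≅ *E(R/m)(-b)` then `a(R) = b` (positively graded *local rings)
-/

namespace Groth.Agent.H98.Canon

open Groth.Agent.H98.GrStar Groth.Agent.H98.Bass0 DirectSum

section Inv

variable {M N : Type u} [AddCommGroup M] [AddCommGroup N] (ℳ : ℤ → AddSubgroup M)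
  (𝒩 : ℤ → AddSubgroup N) [DirectSum.Decomposition ℳ] [DirectSum.Decomposition 𝒩]

/-- the inverse of a bijective additive map shifting degrees by `b` shifts degrees by `-b` -/
theorem symm_mem_of_shift (f : M ≃+ N) (b : ℤ) (hf : ∀ i, ∀ x ∈ ℳ i, f x ∈ 𝒩 (b + i)) (g : ℤ)
    (c : N) (hc : c ∈ 𝒩 g) : f.symm c ∈ ℳ (g - b) := by
  have h1 := decompose_map_shift ℳ 𝒩 f.toAddMonoidHom b hf (f.symm c) (g - b)
  have h2 : f.toAddMonoidHom (f.symm c) = c := f.apply_symm_apply c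
  rw [h2, add_sub_cancel, DirectSum.decompose_of_mem_same 𝒩 hc] at h1
  have h3 : f.symm c = (DirectSum.decompose ℳ (f.symm c) (g - b) : M) := by
    apply f.injective
    rw [f.apply_symm_apply]
    exact h1
  rw [h3]
  exact SetLike.coe_mem _

end Inv

section Hull

variable {R : Type u} [CommRing R] (𝒜 : ℤ → AddSubgroup R) [GradedRing 𝒜]
  (hpos : ∀ n : ℤ, n < 0 → ∀ r ∈ 𝒜 n, r = 0) {m : HomogeneousIdeal 𝒜}
  (hmsp : m.toIdeal = Ideal.span (⋃ n ∈ Set.Ioi (0 : ℤ), (𝒜 n : Set R)))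
variable {E' : Type u} [AddCommGroup E'] [Module R E'] (𝓔 : ℤ → AddSubgroup E')
  [DirectSum.Decomposition 𝓔] [SetLike.GradedSMul 𝒜 𝓔]
  (e : (R ⧸ m.toIdeal) →ₗ[R] E')

include hpos hmsp in
/-- modulo `R_+`, an element is its degree zero component -/
theorem sub_decompose_zero_mem (s : R) : s - (decompose 𝒜 s 0 : R) ∈ m.toIdeal := by
  classical
  have h1 : ∀ i : ℤ, i ≠ 0 → (decompose 𝒜 s i : R) ∈ m.toIdeal := by
    intro i hi
    rcases lt_or_gt_of_ne hi with h | h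
    · rw [hpos i h _ (SetLike.coe_mem _)]
      exact Submodule.zero_mem _
    · rw [hmsp]
      apply Ideal.subset_span
      exact Set.mem_iUnion₂.mpr ⟨i, h, SetLike.coe_mem _⟩
  have h2 : s - (decompose 𝒜 s 0 : R) =
      ∑ i ∈ (decompose 𝒜 s).support.erase 0, (decompose 𝒜 s i : R) := by
    rw [sub_eq_iff_eq_add]
    by_cases h0 : (0 : ℤ) ∈ (decompose 𝒜 s).support
    · rw [Finset.sum_erase_add _ _ h0, DirectSum.sum_support_decompose]
    · have h3 : (decompose 𝒜 s 0 : R) = 0 := by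
        rw [DFinsupp.notMem_support_iff] at h0
        rw [h0]; rfl
      rw [h3, add_zero, Finset.erase_eq_of_notMem h0, DirectSum.sum_support_decompose]
  rw [h2]
  exact Submodule.sum_mem _ (fun i hi => h1 i (Finset.ne_of_mem_erase hi))

include hpos hmsp in
/-- the image of `R/m` in `*E(R/m)` sits in degree zero -/
theorem e_mem_zero (he : GrLC.IsStarEss (GrLC.quotGr 𝒜 m) 𝓔 e) (k : R ⧸ m.toIdeal) :
    e k ∈ 𝓔 0 := by
  obtain ⟨s, rfl⟩ := Ideal.Quotient.mk_surjective k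
  have h1 : Ideal.Quotient.mk m.toIdeal s = Ideal.Quotient.mk m.toIdeal (decompose 𝒜 s 0 : R) := by
    rw [Ideal.Quotient.eq]
    exact sub_decompose_zero_mem 𝒜 hpos hmsp s
  rw [h1]
  exact he.grHom 0 _ ⟨_, SetLike.coe_mem _, rfl⟩

include hpos hmsp in
/-- `*E(R/m)` vanishes in positive degrees -/
theorem hull_eq_zero_of_pos (he : GrLC.IsStarEss (GrLC.quotGr 𝒜 m) 𝓔 e) (j : ℤ) (hj : 0 < j)
    (y : E') (hy : y ∈ 𝓔 j) : y = 0 := by
  by_contra hy0
  obtain ⟨d, r, hr, hry0, ⟨k, hk⟩⟩ :=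
    exists_homog_mul_mem_range_of_homog 𝒜 (quotIdealGMod 𝒜 m).gr 𝓔 e he hy hy0
  have hd : 0 ≤ d := by
    by_contra hd
    apply hry0
    rw [hpos d (by omega) r hr, zero_smul]
  have h1 : r • y ∈ 𝓔 (d + j) := by
    have := SetLike.GradedSMul.smul_mem (A := 𝒜) (B := 𝓔) hr hy
    rwa [vadd_eq_add] at this
  have h2 : r • y ∈ 𝓔 0 := by
    rw [← hk]
    exact e_mem_zero 𝒜 hpos hmsp 𝓔 e he k
  apply hry0
  have h3 := DirectSum.decompose_of_mem_ne 𝓔 h1 (show d + j ≠ 0 by omega)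
  rw [DirectSum.decompose_of_mem_same 𝓔 h2] at h3
  exact h3

end Hull

section Main

variable {R : Type u} [CommRing R] [IsNoetherianRing R] (𝒜 : ℤ → AddSubgroup R) [GradedRing 𝒜]
  (hpos : ∀ n : ℤ, n < 0 → ∀ r ∈ 𝒜 n, r = 0) {m : HomogeneousIdeal 𝒜}
  (hm : GrLC.IsStarLocal 𝒜 m)
  (hmsp : m.toIdeal = Ideal.span (⋃ n ∈ Set.Ioi (0 : ℤ), (𝒜 n : Set R)))
variable {E' : Type u} [AddCommGroup E'] [Module R E'] (𝓔 : ℤ → AddSubgroup E')
  [DirectSum.Decomposition 𝓔] [SetLike.GradedSMul 𝒜 𝓔]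
  (e : (R ⧸ m.toIdeal) →ₗ[R] E')
variable {M : Type u} [AddCommGroup M] [Module R M] {ℳ : ℤ → AddSubgroup M}
  [DirectSum.Decomposition ℳ] [SetLike.GradedSMul 𝒜 ℳ]

include hpos hm hmsp in
/-- if `*H^n_m(M) ≅ *E(R/m)` by a map of degree `b`, the end of `*H^n_m(M)` is `b` -/
theorem endDeg_eq_of_hull_equiv (he : GrLC.IsStarEss (GrLC.quotGr 𝒜 m) 𝓔 e)
    (I : GrLC.StarInjRes 𝒜 ℳ) (n : ℕ) (b : ℤ) (Ψ : E' ≃ₗ[R] I.H m n)
    (hΨ : ∀ k x, x ∈ 𝓔 k → Ψ x ∈ I.Hgr m n (k + b)) :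
    GrLC.endDeg (I.Hgr m n) = ((b : WithTop ℤ) : WithBot (WithTop ℤ)) := by
  classical
  letI : DirectSum.Decomposition (I.Hgr m n) := (Hgr_isInternal 𝒜 ℳ I m n).chooseDecomposition
  apply le_antisymm
  · apply endDeg_le_of_forall
    intro d hd
    rw [eq_bot_iff]
    intro x hx
    have h1 := symm_mem_of_shift 𝓔 (I.Hgr m n) Ψ.toAddEquiv b
      (fun i y hy => by
        have := hΨ i y hy
        rwa [add_comm] at this) d x hx
    have h2 := hull_eq_zero_of_pos 𝒜 hpos hmsp 𝓔 e he (d - b) (by omega) _ h1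
    have h3 : Ψ.symm x = 0 := h2
    rw [AddSubgroup.mem_bot, ← Ψ.apply_symm_apply x, h3, map_zero]
  · apply le_endDeg
    intro hbot
    have he1 : e (Ideal.Quotient.mk m.toIdeal 1) ≠ 0 := by
      intro h0
      have h4 := he.injective (h0.trans (map_zero e).symm)
      rw [Ideal.Quotient.eq_zero_iff_mem] at h4
      exact ne_top_of_isStarLocal 𝒜 hm ((Ideal.eq_top_iff_one _).mpr h4)
    have h1 := hΨ 0 _ (e_mem_zero 𝒜 hpos hmsp 𝓔 e he (Ideal.Quotient.mk m.toIdeal 1))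
    rw [zero_add, hbot, AddSubgroup.mem_bot] at h1
    apply he1
    apply Ψ.injective
    rw [h1, map_zero]

end Main

end Groth.Agent.H98.Canon
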