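import Groth.Agent.H98.GrStar.PrimeHull
import Groth.Agent.H98.GrStar.Lift
import Groth.Agent.H98.GrStar.Shift
import Groth.Agent.H98.GrStar.Indec
import Groth.Agent.H98.Bass0.StarLocalSoc

set_option autoImplicit false
universe u

/-!
# The *injective hull of `R ⧸ m` over a *local ring: socle and faithfulness
-/

namespace Groth.Agent.H98.Canon

open Groth.Agent.H98.GrStar Groth.Agent.H98.Bass0

section

variable {ι : Type} [AddCommGroup ι] [DecidableEq ι]
variable {R : Type u} [CommRing R] (𝒜 : ι → AddSubgroup R) [GradedRing 𝒜]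
variable {E' : Type u} [AddCommGroup E'] [Module R E'] (𝓔 : ι → AddSubgroup E')
  [DirectSum.Decomposition 𝓔] [SetLike.GradedSMul 𝒜 𝓔]
variable (m : HomogeneousIdeal 𝒜) (e : (R ⧸ m.toIdeal) →ₗ[R] E')

/-- the socle of `*E(R/m)` is the image of `R/m` (for `m` maximal) -/
theorem mem_range_of_smul_eq_zero [hmax : m.toIdeal.IsMaximal]
    (he : GrLC.IsStarEss (GrLC.quotGr 𝒜 m) 𝓔 e) (x : E') (hx : ∀ r ∈ m.toIdeal, r • x = 0) :
    x ∈ LinearMap.range e := by
  by_cases hx0 : x = 0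
  · rw [hx0]; exact Submodule.zero_mem _
  have hess := isEssentialInj_of_quot 𝒜 𝓔 m e he
  have hN : Submodule.span R {x} ≠ ⊥ := by
    rw [Ne, Submodule.span_singleton_eq_bot]; exact hx0
  obtain ⟨y, ⟨hy1, hy2⟩, hy0⟩ := (Submodule.ne_bot_iff _).mp (hess.essential _ hN)
  obtain ⟨r, rfl⟩ := Submodule.mem_span_singleton.mp hy1
  have hr : r ∉ m.toIdeal := fun h => hy0 (hx r h)
  obtain ⟨s, i, hi, hs⟩ := Ideal.IsMaximal.exists_inv hmax hr
  have : x = s • (r • x) := by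
    calc x = (1 : R) • x := (one_smul R x).symm
      _ = (s * r + i) • x := by rw [hs]
      _ = s • (r • x) := by rw [add_smul, hx i hi, add_zero, mul_smul]
  rw [this]
  exact Submodule.smul_mem _ _ hy2

variable {m} in
/-- `*E(R/m)` is faithful on homogeneous elements -/
theorem exists_smul_ne_zero [IsNoetherianRing R] (hm : GrLC.IsStarLocal 𝒜 m)
    (he : GrLC.IsStarInjHull 𝒜 (GrLC.quotGr 𝒜 m) 𝓔 e) {d : ι} {r : R} (hr : r ∈ 𝒜 d)
    (hr0 : r ≠ 0) : ∃ x : E', r • x ≠ 0 := by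
  obtain ⟨Y, eY, hY⟩ := exists_shift' 𝒜 𝓔 d
  have hYinj := isStarInj_of_shift_equiv 𝒜 𝓔 he.starInj Y d eY hY
  let u : R →ₗ[R] R := LinearMap.lsmul R R r
  have hu : GrLC.IsGrHom (shiftGMod 𝒜 (GrLC.GMod.of 𝒜 R 𝒜) d).gr (GrLC.GMod.of 𝒜 R 𝒜).gr u := by
    intro k x hx
    have hx' : x ∈ 𝒜 (k - d) := hx
    have := SetLike.GradedMul.mul_mem (A := 𝒜) hr hx'
    rw [add_sub_cancel] at this
    exact this
  let g : R →ₗ[R] Y.carrier :=
    eY.symm.toLinearMap ∘ₗ e ∘ₗ (Submodule.mkQ m.toIdeal)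
  have hg : GrLC.IsGrHom (shiftGMod 𝒜 (GrLC.GMod.of 𝒜 R 𝒜) d).gr Y.gr g := by
    intro k x hx
    have hx' : x ∈ 𝒜 (k - d) := hx
    rw [hY k]
    change eY (eY.symm (e (Submodule.mkQ m.toIdeal x))) ∈ 𝓔 (k - d)
    rw [eY.apply_symm_apply]
    exact he.grHom (k - d) _ ⟨x, hx', rfl⟩
  have hker : LinearMap.ker u ≤ LinearMap.ker g := by
    intro x hx
    have hx1 : r * x = 0 := hx
    have hann : ((Submodule.span R {r}).annihilator).IsHomogeneous 𝒜 :=
      annihilator_isHomogeneous 𝒜 𝒜 hr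
    have hne : (Submodule.span R {r}).annihilator ≠ ⊤ := by
      intro h
      apply hr0
      have : (1 : R) ∈ (Submodule.span R {r}).annihilator := by rw [h]; exact Submodule.mem_top
      rw [Submodule.mem_annihilator_span_singleton, one_smul] at this
      exact this
    have hle := le_of_isStarLocal 𝒜 hm _ hann hne
    have hxm : x ∈ m.toIdeal := by
      apply hle
      rw [Submodule.mem_annihilator_span_singleton, smul_eq_mul, mul_comm]
      exact hx1
    change eY.symm (e (Submodule.mkQ m.toIdeal x)) = 0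
    have : Submodule.mkQ m.toIdeal x = 0 := by
      rw [Submodule.mkQ_apply, Submodule.Quotient.mk_eq_zero]
      exact hxm
    rw [this, map_zero, map_zero]
  obtain ⟨h, _, hhu⟩ := exists_ext_of_ker_le 𝒜 Y.gr hYinj
    (shiftGMod 𝒜 (GrLC.GMod.of 𝒜 R 𝒜) d) (GrLC.GMod.of 𝒜 R 𝒜) u hu g hg hker
  let h' : R →ₗ[R] Y.carrier := h
  refine ⟨eY (h' (1 : R)), ?_⟩
  have h1 : r • eY (h' (1 : R)) = e (Submodule.mkQ m.toIdeal (1 : R)) := by
    have h3 : h' (u (1 : R)) = g (1 : R) := LinearMap.congr_fun hhu (1 : R)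
    have h2 : u (1 : R) = r • (1 : R) := rfl
    rw [h2, map_smul] at h3
    rw [← map_smul, h3]
    change eY (eY.symm (e (Submodule.mkQ m.toIdeal (1 : R)))) = _
    rw [eY.apply_symm_apply]
  rw [h1]
  intro h0
  have h4 := he.injective (h0.trans (map_zero e).symm)
  rw [Submodule.mkQ_apply, Submodule.Quotient.mk_eq_zero] at h4
  exact ne_top_of_isStarLocal 𝒜 hm ((Ideal.eq_top_iff_one _).mpr h4)

end

end Groth.Agent.H98.Canon
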