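import Groth.Agent.H98.Bass0.GorBass
import Groth.Agent.H98.Bass0.StarLocalSoc
import Groth.Agent.H2.InjDimResidue
import Groth.Agent.H2.GorensteinGlobal
import Groth.Agent.H26.GorRegHom
import Groth.Agent.S18636

set_option autoImplicit false
universe u

/-!
# A ℤ-graded *local ring whose Bass numbers at `m` vanish in high degrees is Gorenstein
-/

namespace Groth.Agent.H98.Canon

open Groth.Agent.H98.GrStar Groth.Agent.H98.Bass0 IsLocalRing CategoryTheory Abelian

section Loc

variable {R : Type u} [CommRing R] [IsNoetherianRing R]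

/-- vanishing of the Bass numbers `μ_i(p, R)` in high degrees makes `R_p` Gorenstein -/
theorem isGorensteinLocalRing_of_bassNum (p : Ideal R) [p.IsPrime] (n : ℕ)
    (hvan : ∀ i, n < i → GrLC.bassNum p R i = 0) :
    LocCoh.IsGorensteinLocalRing (Localization.AtPrime p) where
  exists_hasInjectiveDimensionLT := by
    refine ⟨n + 1, Groth.Agent.H2.InjDimResidue.hasInjectiveDimensionLT_of_residueField
      (ModuleCat.of (Localization.AtPrime p) (Localization.AtPrime p)) n (fun i hi => ?_)⟩
    have h := hvan i (by omega)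
    rw [bassNum_self_eq, Module.length_eq_zero_iff] at h
    exact h

/-- the Bass numbers of `R` at `p` are concentrated in one degree when `R_p` is Gorenstein -/
theorem exists_bassNum_eq_zero_of_ne (p : Ideal R) [p.IsPrime]
    (h : LocCoh.IsGorensteinLocalRing (Localization.AtPrime p)) :
    ∃ d : ℕ, ∀ i, i ≠ d → GrLC.bassNum p R i = 0 := by
  obtain ⟨d, hd⟩ := Groth.Agent.H2.GorensteinGlobal.exists_nat_ringKrullDim_eq
    (Localization.AtPrime p)
  refine ⟨d, fun i hi => ?_⟩
  rw [bassNum_self_eq, Module.length_eq_zero_iff]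
  exact (Groth.Agent.H2.GorensteinExt.ext_residueField_of_gorenstein _ d hd).1 i hi

omit [IsNoetherianRing R] in
/-- a localization of a Gorenstein local ring at a smaller prime is Gorenstein -/
theorem isGorensteinLocalRing_of_le (P : Ideal R) [P.IsPrime]
    (hP : LocCoh.IsGorensteinLocalRing (Localization.AtPrime P)) (q : Ideal R) [hq : q.IsPrime]
    (hqP : q ≤ P) : LocCoh.IsGorensteinLocalRing (Localization.AtPrime q) := by
  haveI : IsNoetherianRing (Localization.AtPrime P) := hP.toIsNoetherian
  obtain ⟨n, hn⟩ := hP.exists_hasInjectiveDimensionLT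
  have hG : LocCoh.IsGorensteinRing (Localization.AtPrime P) :=
    Groth.Agent.H2.GorensteinGlobal.isGorensteinRing_of_hasInjectiveDimensionLT _ n hn
  have hdisj : Disjoint (P.primeCompl : Set R) (q : Set R) := by
    rw [Set.disjoint_left]
    intro x hx hxq
    exact hx (hqP hxq)
  have hQ : (Ideal.map (algebraMap R (Localization.AtPrime P)) q).IsPrime :=
    IsLocalization.isPrime_of_isPrime_disjoint P.primeCompl _ q hq hdisj
  have hcomap : (Ideal.map (algebraMap R (Localization.AtPrime P)) q).comap
      (algebraMap R (Localization.AtPrime P)) = q :=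
    IsLocalization.under_map_of_isPrime_disjoint P.primeCompl _ hq hdisj
  have key : ∀ (q' : Ideal R) [q'.IsPrime],
      q' = (Ideal.map (algebraMap R (Localization.AtPrime P)) q).comap
        (algebraMap R (Localization.AtPrime P)) →
      LocCoh.IsGorensteinLocalRing (Localization.AtPrime q') := by
    rintro q' _ rfl
    exact Groth.Agent.H26.GorRegHom.isGorensteinLocalRing_of_ringEquiv
      (IsLocalization.localizationLocalizationAtPrimeIsoLocalization P.primeCompl
        (Ideal.map (algebraMap R (Localization.AtPrime P)) q)).symm.toRingEquiv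
      (hG.isGorensteinLocalRing_localization _)
  exact key q hcomap.symm

end Loc

section Main

variable {R : Type u} [CommRing R] [IsNoetherianRing R] (𝒜 : ℤ → AddSubgroup R) [GradedRing 𝒜]
  {m : HomogeneousIdeal 𝒜} (hm : GrLC.IsStarLocal 𝒜 m)

include hm in
theorem isGorensteinRing_of_bassNum [m.toIdeal.IsPrime] (n : ℕ)
    (hvan : ∀ i, n < i → GrLC.bassNum m.toIdeal R i = 0) : LocCoh.IsGorensteinRing R where
  isGorensteinLocalRing_localization := by
    intro p hp
    have hGm := isGorensteinLocalRing_of_bassNum m.toIdeal n hvan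
    -- graded primes
    have hgr : ∀ (q : Ideal R) [q.IsPrime], q.IsHomogeneous 𝒜 →
        LocCoh.IsGorensteinLocalRing (Localization.AtPrime q) := by
      intro q hq hqh
      exact isGorensteinLocalRing_of_le m.toIdeal hGm q
        (le_of_isStarLocal 𝒜 hm q hqh hq.ne_top)
    by_cases hph : p.IsHomogeneous 𝒜
    · exact hgr p hph
    · haveI hcore : (Ideal.homogeneousCore 𝒜 p).toIdeal.IsPrime := hp.homogeneousCore
      obtain ⟨d, hd⟩ := exists_bassNum_eq_zero_of_ne _
        (hgr (Ideal.homogeneousCore 𝒜 p).toIdeal (Ideal.homogeneousCore 𝒜 p).isHomogeneous)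
      obtain ⟨_, h2⟩ := Groth.Agent.S18636.result R 𝒜 R 𝒜 p hph
      apply isGorensteinLocalRing_of_bassNum p (d + 1)
      intro i hi
      obtain ⟨j, rfl⟩ : ∃ j, i = j + 1 := ⟨i - 1, by omega⟩
      rw [h2 j]
      exact hd j (by omega)

end Main

end Groth.Agent.H98.Canon
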