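import Groth.Agent.H98.GrStar.Self

set_option autoImplicit false
universe u

/-!
# Transport from a grading by an arbitrary `SetLike` family to the family of additive subgroups
-/

noncomputable section

namespace Groth.Agent.H98.Canon

open Groth.Agent.H98.GrStar DirectSum

variable {ι : Type} [AddCommGroup ι] [DecidableEq ι]
variable {R : Type u} [CommRing R] {σ : Type u} [SetLike σ R] [AddSubgroupClass σ R]
  (𝒜 : ι → σ) [GradedRing 𝒜]

instance selfGrGradedMonoid : SetLike.GradedMonoid (selfGr 𝒜) where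
  one_mem := SetLike.GradedOne.one_mem (A := 𝒜)
  mul_mem := fun _ _ _ _ ha hb => SetLike.GradedMul.mul_mem (A := 𝒜) ha hb

instance selfGrGradedRing : GradedRing (selfGr 𝒜) :=
  { selfGrGradedMonoid 𝒜, selfGrDecomposition 𝒜 with }

/-- transport of homogeneous ideals -/
def toSelfIdeal (m : HomogeneousIdeal 𝒜) : HomogeneousIdeal (selfGr 𝒜) :=
  ⟨m.toIdeal, fun i _ hx => m.isHomogeneous i hx⟩

/-- transport of homogeneous ideals, back -/
def ofSelfIdeal (m : HomogeneousIdeal (selfGr 𝒜)) : HomogeneousIdeal 𝒜 :=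
  ⟨m.toIdeal, fun i _ hx => m.isHomogeneous i hx⟩

theorem toSelfIdeal_toIdeal (m : HomogeneousIdeal 𝒜) : (toSelfIdeal 𝒜 m).toIdeal = m.toIdeal := rfl

/-- the order isomorphism of homogeneous ideals -/
def selfIdealIso : HomogeneousIdeal 𝒜 ≃o HomogeneousIdeal (selfGr 𝒜) where
  toFun := toSelfIdeal 𝒜
  invFun := ofSelfIdeal 𝒜
  left_inv _ := rfl
  right_inv _ := rfl
  map_rel_iff' := Iff.rfl

theorem isStarLocal_toSelf {m : HomogeneousIdeal 𝒜} (hm : GrLC.IsStarLocal 𝒜 m) :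
    GrLC.IsStarLocal (selfGr 𝒜) (toSelfIdeal 𝒜 m) := by
  constructor
  · exact ((selfIdealIso 𝒜).isCoatom_iff m).mpr hm.1
  · intro n hn
    have h1 : IsCoatom ((selfIdealIso 𝒜).symm n) := ((selfIdealIso 𝒜).symm.isCoatom_iff n).mpr hn
    have h2 := hm.2 _ h1
    have h3 : n = selfIdealIso 𝒜 ((selfIdealIso 𝒜).symm n) := ((selfIdealIso 𝒜).apply_symm_apply n).symm
    rw [h3, h2]
    rfl

section Mod

variable {M : Type u} [AddCommGroup M] [Module R M] (ℳ : ι → AddSubgroup M)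

/-- graded scalar multiplication over the additive-subgroup grading -/
theorem gradedSMul_toSelf [SetLike.GradedSMul 𝒜 ℳ] : SetLike.GradedSMul (selfGr 𝒜) ℳ :=
  ⟨fun {_ _ _ _} hr hx => SetLike.GradedSMul.smul_mem (A := 𝒜) hr hx⟩

theorem gradedSMul_ofSelf [SetLike.GradedSMul (selfGr 𝒜) ℳ] : SetLike.GradedSMul 𝒜 ℳ :=
  ⟨fun {_ _ _ _} hr hx => SetLike.GradedSMul.smul_mem (A := selfGr 𝒜) hr hx⟩

end Mod

/-- transport of bundled graded modules -/
def gmodToSelf (X : GrLC.GMod.{u} 𝒜) : GrLC.GMod.{u} (selfGr 𝒜) :=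
  { carrier := X.carrier
    gr := X.gr
    dec := X.dec
    gsmul := gradedSMul_toSelf 𝒜 X.gr }

/-- transport of bundled graded modules, back -/
def gmodOfSelf (X : GrLC.GMod.{u} (selfGr 𝒜)) : GrLC.GMod.{u} 𝒜 :=
  { carrier := X.carrier
    gr := X.gr
    dec := X.dec
    gsmul := gradedSMul_ofSelf 𝒜 X.gr }

section Inj

variable {M : Type u} [AddCommGroup M] [Module R M] (ℳ : ι → AddSubgroup M)
  [DirectSum.Decomposition ℳ]

theorem isStarInj_toSelf [SetLike.GradedSMul 𝒜 ℳ] [SetLike.GradedSMul (selfGr 𝒜) ℳ]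
    (h : GrLC.IsStarInj 𝒜 ℳ) : GrLC.IsStarInj (selfGr 𝒜) ℳ := by
  intro A B f hf hfi g hg
  exact h (gmodOfSelf 𝒜 A) (gmodOfSelf 𝒜 B) f hf hfi g hg

end Inj

section Res

/-- transport of *injective resolutions of the ring -/
def resToSelf (E : GrLC.StarInjRes 𝒜 𝒜) : GrLC.StarInjRes (selfGr 𝒜) (selfGr 𝒜) where
  X n := gmodToSelf 𝒜 (E.X n)
  d n := E.d n
  ε := E.ε
  d_grHom n := E.d_grHom n
  ε_grHom := fun g x hx => E.ε_grHom g x hx
  ε_injective := E.ε_injective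
  exact_zero := E.exact_zero
  exact_succ := E.exact_succ
  starInj n := by
    haveI := gradedSMul_toSelf 𝒜 (E.X n).gr
    exact isStarInj_toSelf 𝒜 (E.X n).gr (E.starInj n)

end Res

section Hull

variable (m : HomogeneousIdeal 𝒜) {E' : Type u} [AddCommGroup E'] [Module R E']
  (𝓔 : ι → AddSubgroup E') [DirectSum.Decomposition 𝓔] [SetLike.GradedSMul 𝒜 𝓔]
  [SetLike.GradedSMul (selfGr 𝒜) 𝓔]

theorem isStarInjHull_toSelf (e : (R ⧸ m.toIdeal) →ₗ[R] E')
    (he : GrLC.IsStarInjHull 𝒜 (GrLC.quotGr 𝒜 m) 𝓔 e) :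
    GrLC.IsStarInjHull (selfGr 𝒜) (GrLC.quotGr (selfGr 𝒜) (toSelfIdeal 𝒜 m)) 𝓔 e where
  injective := he.injective
  grHom := fun g x hx => he.grHom g x hx
  essential := he.essential
  starInj := isStarInj_toSelf 𝒜 𝓔 he.starInj

variable {C : Type u} [AddCommGroup C] [Module R C] (𝒞 : ι → AddSubgroup C)
  [DirectSum.Decomposition 𝒞] [SetLike.GradedSMul 𝒜 𝒞] [SetLike.GradedSMul (selfGr 𝒜) 𝒞]

theorem isStarCanonical_toSelf (n : ℕ) (I : GrLC.StarInjRes 𝒜 𝒜)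
    (hC : GrLC.IsStarCanonical 𝒜 𝒞 𝓔 m n I) :
    GrLC.IsStarCanonical (selfGr 𝒜) 𝒞 𝓔 (toSelfIdeal 𝒜 m) n (resToSelf 𝒜 I) := by
  obtain ⟨hfin, φ, hφ⟩ := hC
  exact ⟨hfin, φ, fun d h hh => hφ d h hh⟩

end Hull

end Groth.Agent.H98.Canon

end
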