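import Mathlib.RingTheory.MvPolynomial.WeightedHomogeneous
import Mathlib.RingTheory.MvPolynomial.Ideal
import Mathlib.RingTheory.KrullDimension.Polynomial
import Mathlib.RingTheory.RegularLocalRing.Polynomial
import Groth.Agent.H89.GorReg
import Groth.Agent.H79.KoszulPoly
import Groth.Agent.H2.GorensteinCM
import Groth.Agent.H98.Canon.ToSelf

set_option autoImplicit false
universe u

/-!
# The weighted polynomial ring `k[X_1, …, X_N]`, `deg X_i = w_i > 0`: basic facts
-/

namespace Groth.Agent.H98.Canon

open MvPolynomial Groth.Agent.H98.GrStar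

section

variable {k : Type u} [Field k] {N : ℕ} (w : Fin N → ℤ) (hw : ∀ i, 0 < w i)

include hw in
theorem weight_nonneg (d : Fin N →₀ ℕ) : 0 ≤ Finsupp.weight w d := by
  rw [Finsupp.weight_apply, Finsupp.sum]
  exact Finset.sum_nonneg (fun i _ => smul_nonneg (Nat.zero_le _) (hw i).le)

include hw in
theorem weight_pos (d : Fin N →₀ ℕ) (hd : d ≠ 0) : 0 < Finsupp.weight w d := by
  rw [Finsupp.weight_apply, Finsupp.sum]
  obtain ⟨i, hi⟩ : ∃ i, d i ≠ 0 := by
    by_contra hcon
    push Not at hcon
    exact hd (Finsupp.ext hcon)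
  apply Finset.sum_pos' (fun i _ => smul_nonneg (Nat.zero_le _) (hw i).le)
  refine ⟨i, Finsupp.mem_support_iff.mpr hi, ?_⟩
  rw [nsmul_eq_mul]
  exact mul_pos (by exact_mod_cast Nat.pos_of_ne_zero hi) (hw i)

include hw in
/-- no nonzero polynomial has negative weighted degree -/
theorem eq_zero_of_mem_neg (n : ℤ) (hn : n < 0) (p : MvPolynomial (Fin N) k)
    (hp : p ∈ weightedHomogeneousSubmodule k w n) : p = 0 := by
  by_contra hp0
  obtain ⟨d, hd⟩ := MvPolynomial.ne_zero_iff.mp hp0
  have h1 := hp hd
  have h2 := weight_nonneg w hw d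
  omega

include hw in
/-- polynomials of weighted degree zero are constants -/
theorem eq_C_of_mem_zero (p : MvPolynomial (Fin N) k)
    (hp : p ∈ weightedHomogeneousSubmodule k w 0) : p = C (coeff 0 p) := by
  ext d
  rw [coeff_C]
  by_cases hd : d = 0
  · subst hd
    rw [if_pos rfl]
  · rw [if_neg (Ne.symm hd)]
    by_contra hne
    have h1 := hp hne
    have h2 := weight_pos w hw d hd
    omega

include hw in
/-- the ideal generated by the elements of positive degree is `(X_1, …, X_N)` -/
theorem span_pos_eq_span_X :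
    Ideal.span (⋃ n ∈ Set.Ioi (0 : ℤ),
      (weightedHomogeneousSubmodule k w n : Set (MvPolynomial (Fin N) k))) =
    Ideal.span (Set.range (X : Fin N → MvPolynomial (Fin N) k)) := by
  apply le_antisymm
  · rw [Ideal.span_le]
    intro p hp
    obtain ⟨n, hn, hpn⟩ := Set.mem_iUnion₂.mp hp
    rw [← Set.image_univ]
    apply MvPolynomial.mem_ideal_span_X_image.mpr
    intro d hd
    have h1 : Finsupp.weight w d = n := hpn (MvPolynomial.mem_support_iff.mp hd)
    have hd0 : d ≠ 0 := by
      intro h0
      rw [h0, map_zero] at h1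
      have : (0 : ℤ) < n := hn
      omega
    obtain ⟨i, hi⟩ : ∃ i, d i ≠ 0 := by
      by_contra hcon
      push Not at hcon
      exact hd0 (Finsupp.ext hcon)
    exact ⟨i, Set.mem_univ _, hi⟩
  · rw [Ideal.span_le]
    rintro _ ⟨i, rfl⟩
    apply Ideal.subset_span
    exact Set.mem_iUnion₂.mpr ⟨w i, hw i, isWeightedHomogeneous_X k w i⟩

end

section Ring

variable (k : Type u) [Field k] (N : ℕ)

theorem ringKrullDim_mvPolynomial_fin : ringKrullDim (MvPolynomial (Fin N) k) = N := by
  rw [MvPolynomial.ringKrullDim_of_isNoetherianRing, ringKrullDim_eq_zero_of_field, zero_add,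
    Nat.card_eq_fintype_card, Fintype.card_fin]

theorem isGorensteinRing_mvPolynomial : LocCoh.IsGorensteinRing (MvPolynomial (Fin N) k) :=
  Groth.Agent.H89.GorReg.isGorensteinRing_of_isRegularRing _

theorem isCohenMacaulayRing_mvPolynomial :
    LocCoh.IsCohenMacaulayRing (MvPolynomial (Fin N) k) where
  isCohenMacaulayLocalRing_localization p _ := by
    haveI : LocCoh.IsGorensteinLocalRing (Localization.AtPrime p) :=
      (isGorensteinRing_mvPolynomial k N).isGorensteinLocalRing_localization p
    exact Groth.Agent.H2.GorensteinCM.isCohenMacaulayLocalRing _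

/-- the variables form a regular sequence -/
theorem isRegular_X : RingTheory.Sequence.IsRegular (MvPolynomial (Fin N) k)
    (List.ofFn (X : Fin N → MvPolynomial (Fin N) k)) := by
  constructor
  · have h := Groth.Agent.H79.KoszulPoly.isWeaklyRegular_pow_X (A := k) N 1
    have h2 : List.map (fun x => x ^ 1) (List.ofFn fun j : Fin N => (X j : MvPolynomial (Fin N) k)) =
        List.ofFn (X : Fin N → MvPolynomial (Fin N) k) := by
      simp only [pow_one, List.map_ofFn]
      rfl
    rw [h2] at h
    exact h
  · intro htop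
    have h1 : (1 : MvPolynomial (Fin N) k) ∈
        Ideal.ofList (List.ofFn (X : Fin N → MvPolynomial (Fin N) k)) •
          (⊤ : Submodule (MvPolynomial (Fin N) k) (MvPolynomial (Fin N) k)) := by
      rw [← htop]; exact Submodule.mem_top
    rw [smul_eq_mul, Ideal.mul_top] at h1
    have h3 : Ideal.ofList (List.ofFn (X : Fin N → MvPolynomial (Fin N) k)) =
        Ideal.span (X '' (Set.univ : Set (Fin N))) := by
      rw [Ideal.ofList, Set.image_univ]
      congr 1
      ext p
      simp [List.mem_ofFn]
    rw [h3, MvPolynomial.mem_ideal_span_X_image] at h1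
    have h4 : (0 : Fin N →₀ ℕ) ∈ (1 : MvPolynomial (Fin N) k).support := by
      rw [MvPolynomial.mem_support_iff, MvPolynomial.coeff_one, if_pos rfl]
      exact one_ne_zero
    obtain ⟨i, _, hi⟩ := h1 0 h4
    exact hi rfl

end Ring

end Groth.Agent.H98.Canon
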