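import Groth.Agent.H98.GrStar.HighVanish
import Groth.Agent.H98.GrStar.LocCohGr
import Groth.Agent.H98.GrStar.Indec
import Groth.Agent.H98.Bass0.StarLocalSoc
import Groth.Agent.H98.Bass0.LocSoc
import Groth.Agent.H58.LCGV
import Groth.Agent.H58.LCFlat2
import Mathlib.RingTheory.Localization.BaseChange

set_option autoImplicit false
universe u

/-!
# Grothendieck vanishing for graded local cohomology over a *local ring:
`*H^i_m(M) = 0` for `i > ht m`
-/

namespace Groth.Agent.H98.Canon

open Groth.Agent.H98.GrStar Groth.Agent.H98.Bass0 DirectSum TensorProduct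

variable {ι : Type} [AddCommGroup ι] [DecidableEq ι]
variable {R : Type u} [CommRing R] [IsNoetherianRing R] (𝒜 : ι → AddSubgroup R) [GradedRing 𝒜]
  {m : HomogeneousIdeal 𝒜} (hm : GrLC.IsStarLocal 𝒜 m)
variable {M : Type u} [AddCommGroup M] [Module R M] {ℳ : ι → AddSubgroup M}
  [DirectSum.Decomposition ℳ] [SetLike.GradedSMul 𝒜 ℳ]

include hm in
/-- a graded module over a *local ring whose localization at `m` vanishes is zero; here for
`*H^i_m(M)` -/
theorem H_subsingleton_of_localized (E : GrLC.StarInjRes 𝒜 ℳ) [m.toIdeal.IsPrime] (i : ℕ)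
    (h : Subsingleton (LocalizedModule m.toIdeal.primeCompl (E.H m i))) :
    Subsingleton (E.H m i) := by
  classical
  letI : DirectSum.Decomposition (E.Hgr m i) := (Hgr_isInternal 𝒜 ℳ E m i).chooseDecomposition
  haveI : SetLike.GradedSMul 𝒜 (E.Hgr m i) := ⟨fun {d n r z} hr hz => by
    have := smul_mem_Hgr E m hr i z hz
    rwa [← vadd_eq_add] at this⟩
  refine ⟨fun x y => ?_⟩
  have key : ∀ z : E.H m i, z = 0 := by
    intro z
    apply eq_zero_of_decompose_eq_zero (E.Hgr m i) z
    intro g
    by_contra hne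
    set zg : E.H m i := (decompose (E.Hgr m i) z g : E.H m i) with hzg
    have hzg_mem : zg ∈ E.Hgr m i g := SetLike.coe_mem _
    have h0 : (LocalizedModule.mk zg 1 : LocalizedModule m.toIdeal.primeCompl (E.H m i)) = 0 :=
      Subsingleton.elim _ _
    obtain ⟨t, htm, htz⟩ := (mk_eq_zero_iff' m.toIdeal zg 1).mp h0
    have hann : ((Submodule.span R {zg}).annihilator).IsHomogeneous 𝒜 :=
      annihilator_isHomogeneous 𝒜 (E.Hgr m i) hzg_mem
    have hne' : (Submodule.span R {zg}).annihilator ≠ ⊤ := by
      intro htop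
      apply hne
      have : (1 : R) ∈ (Submodule.span R {zg}).annihilator := by
        rw [htop]; exact Submodule.mem_top
      rw [Submodule.mem_annihilator_span_singleton, one_smul] at this
      exact this
    have hle := le_of_isStarLocal 𝒜 hm _ hann hne'
    apply htm
    apply hle
    rw [Submodule.mem_annihilator_span_singleton]
    exact htz
  rw [key x, key y]

include hm in
/-- **Grothendieck vanishing** over a *local ring: `*H^i_m(M) = 0` for `i > ht m` -/
theorem H_subsingleton_of_height_lt (E : GrLC.StarInjRes 𝒜 ℳ) [m.toIdeal.IsPrime] (n : ℕ)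
    (hn : m.toIdeal.height = n) (i : ℕ) (hi : n < i) : Subsingleton (E.H m i) := by
  apply H_subsingleton_of_localized 𝒜 hm E i
  have hdim : ringKrullDim (Localization.AtPrime m.toIdeal) = n := by
    rw [IsLocalization.AtPrime.ringKrullDim_eq_height m.toIdeal (Localization.AtPrime m.toIdeal),
      hn]
    rfl
  have hGV : Subsingleton (LocCoh.H (Ideal.map (algebraMap R (Localization.AtPrime m.toIdeal))
      m.toIdeal) i (Localization.AtPrime m.toIdeal ⊗[R] M)) := by
    apply Groth.Agent.H58.LC.gv
    refine lt_of_le_of_lt (Module.supportDim_le_ringKrullDim _ _) ?_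
    rw [hdim]
    exact_mod_cast hi
  obtain ⟨ψ⟩ := Groth.Agent.H58.LC.fbProp (R' := Localization.AtPrime m.toIdeal) m.toIdeal i M
  have h1 : Subsingleton (Localization.AtPrime m.toIdeal ⊗[R] LocCoh.H m.toIdeal i M) :=
    ψ.toEquiv.subsingleton
  have h2 : Subsingleton (Localization.AtPrime m.toIdeal ⊗[R] E.H m i) :=
    (TensorProduct.congr (LinearEquiv.refl R (Localization.AtPrime m.toIdeal))
      (θ E m i)).toEquiv.subsingleton
  exact (LocalizedModule.isBaseChange m.toIdeal.primeCompl (E.H m i)).equiv.symm.toEquiv.subsingleton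

end Groth.Agent.H98.Canon
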