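import Groth.Agent.H98.Canon.TopInj

set_option autoImplicit false
universe u

/-!
# Vanishing of `μ_i(m, R)` for `i ≠ dim R` when `*H^n_m(R)` is a shifted `*E(R/m)`
-/

namespace Groth.Agent.H98.Canon

open Groth.Agent.H98.GrStar Groth.Agent.H98.Bass0 Groth.Agent.H98.GrHt DirectSum IsLocalRing

section Soc

variable {R : Type u} [CommRing R] [IsNoetherianRing R] (p : Ideal R) [p.IsPrime]
variable (N : Type u) [AddCommGroup N] [Module R N]

theorem soc_eq_bot_of_gam_eq_bot (h : GrLC.gam p N = ⊥) :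
    soc (Localization.AtPrime p) (LocalizedModule p.primeCompl N) = ⊥ := by
  rw [eq_bot_iff]
  intro x hx
  rw [Submodule.mem_bot]
  by_contra hx0
  obtain ⟨y, s, _, hmy, hty⟩ := exists_rep_of_mem_soc p
    ((isNoetherianRing_iff_ideal_fg R).mp inferInstance _) x hx hx0
  have hy : y ∈ GrLC.gam p N := ⟨1, fun r hr => hmy r (by rwa [pow_one] at hr)⟩
  rw [h, Submodule.mem_bot] at hy
  apply hty 1 (fun h1 => (Ideal.ne_top_iff_one p).mp (Ideal.IsPrime.ne_top ‹_›) h1)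
  rw [hy, smul_zero]

end Soc

section Main

variable {R : Type u} [CommRing R] [LocCoh.IsCohenMacaulayRing R] (𝒜 : ℤ → AddSubgroup R)
  [GradedRing 𝒜] (hpos : ∀ n : ℤ, n < 0 → 𝒜 n = ⊥) {m : HomogeneousIdeal 𝒜}
  (hm : GrLC.IsStarLocal 𝒜 m) (n : ℕ) (hn : ringKrullDim R = n)

include hn in
/-- Grothendieck vanishing for the graded local cohomology -/
theorem H_subsingleton_of_gt (I : GrLC.StarInjRes 𝒜 𝒜) (i : ℕ) (hi : n < i) :
    Subsingleton (I.H m i) := by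
  have h1 : Module.supportDim R R < (i : WithBot ℕ∞) := by
    rw [Module.supportDim_self_eq_ringKrullDim, hn]
    exact_mod_cast hi
  have := Groth.Agent.H58.LC.gv m.toIdeal i R h1
  exact (θ I m i).toEquiv.subsingleton

variable {E' : Type u} [AddCommGroup E'] [Module R E'] (𝓔 : ℤ → AddSubgroup E')
  [DirectSum.Decomposition 𝓔] [SetLike.GradedSMul 𝒜 𝓔]

include hpos hm hn in
theorem bassNum_eq_zero_of_ne [hmax : m.toIdeal.IsMaximal] (hI : GrLC.IsStarInj 𝒜 𝓔) (I : GrLC.StarInjRes 𝒜 𝒜) (a : ℤ)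
    (Ψ : E' ≃ₗ[R] I.H m n) (hΨ : ∀ k x, x ∈ 𝓔 k → Ψ x ∈ I.Hgr m n (k + a)) (i : ℕ)
    (hi : i ≠ n) : GrLC.bassNum m.toIdeal R i = 0 := by
  have h1 := height_eq_ringKrullDim_of_isStarLocal 𝒜 hpos hm
  rw [hn] at h1
  have hht : m.toIdeal.height = n := by exact_mod_cast h1
  rcases lt_or_gt_of_ne hi with hlt | hgt
  · exact bassNum_eq_zero_of_cm m.toIdeal n hht i hlt
  let X : GrLC.StarInjRes 𝒜 𝒜 := minRes 𝒜 𝒜
  have hE : IsMinimal X := minRes_isMinimal 𝒜 𝒜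
  have hlow : ∀ j, j < n → GrLC.gam m.toIdeal (X.X j).carrier = ⊥ := by
    intro j hj
    apply gam_eq_bot_of_soc_eq_bot 𝒜 hm (X.X j).gr
    have h1 : socLen m X j = 0 := by
      rw [← hE.bassNum_eq m j]
      exact bassNum_eq_zero_of_cm m.toIdeal n hht j hj
    rw [socLen, Module.length_eq_zero_iff] at h1
    exact (Submodule.subsingleton_iff_eq_bot).mp h1
  let Ψ' : E' ≃ₗ[R] X.H m n := Ψ.trans (resEquiv m I X n)
  have hΨ' : ∀ k x, x ∈ 𝓔 k → Ψ' x ∈ X.Hgr m n (k + a) := fun k x hx =>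
    resEquiv_isGrHom m I X n (k + a) _ (hΨ k x hx)
  have hA := d_eq_zero_of_mem_gam 𝒜 X hE 𝓔 hI n (fun j hj => hlow j (by omega)) a Ψ' hΨ'
  have hgam := gam_eq_bot_of_gt 𝒜 X hE n
    (fun i hi => H_subsingleton_of_gt 𝒜 n hn X i hi) hA i hgt
  rw [hE.bassNum_eq m i, socLen, Module.length_eq_zero_iff,
    soc_eq_bot_of_gam_eq_bot m.toIdeal _ hgam]
  infer_instance

end Main

end Groth.Agent.H98.Canon
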