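import Groth.Agent.H98.Canon.HullSoc
import Groth.Agent.H98.GrStar.Nakayama
import Mathlib.LinearAlgebra.Dual.Lemmas

set_option autoImplicit false
universe u

/-!
# A finitely generated graded module `C` with `Hom(C, *E(R/m)) ≃ *E(R/m)` is a shifted copy of `R`
-/

namespace Groth.Agent.H98.Canon

open Groth.Agent.H98.GrStar Groth.Agent.H98.Bass0 DirectSum

section

variable {R : Type u} [CommRing R] [IsNoetherianRing R] (𝒜 : ℤ → AddSubgroup R) [GradedRing 𝒜]
  (hpos : ∀ n : ℤ, n < 0 → ∀ r ∈ 𝒜 n, r = 0) {m : HomogeneousIdeal 𝒜}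
  (hm : GrLC.IsStarLocal 𝒜 m)
  (hmsp : m.toIdeal = Ideal.span (⋃ n ∈ Set.Ioi (0 : ℤ), (𝒜 n : Set R)))
variable {E' : Type u} [AddCommGroup E'] [Module R E'] (𝓔 : ℤ → AddSubgroup E')
  [DirectSum.Decomposition 𝓔] [SetLike.GradedSMul 𝒜 𝓔]
  (e : (R ⧸ m.toIdeal) →ₗ[R] E') (he : GrLC.IsStarInjHull 𝒜 (GrLC.quotGr 𝒜 m) 𝓔 e)
variable {C : Type u} [AddCommGroup C] [Module R C] (𝒞 : ℤ → AddSubgroup C)
  [DirectSum.Decomposition 𝒞] [SetLike.GradedSMul 𝒜 𝒞] [Module.Finite R C]
  (Φ : (C →ₗ[R] E') ≃ₗ[R] E')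

theorem smul_quot_eq_zero {r : R} (hr : r ∈ m.toIdeal) (k : R ⧸ m.toIdeal) : r • k = 0 := by
  obtain ⟨s, rfl⟩ := Ideal.Quotient.mk_surjective k
  change Ideal.Quotient.mk m.toIdeal (r * s) = 0
  rw [Ideal.Quotient.eq_zero_iff_mem]
  exact Ideal.mul_mem_right _ _ hr

/-- the map `C → E'` attached to a functional on `C / mC` -/
noncomputable def homOfDual
    (lam : (C ⧸ (m.toIdeal • (⊤ : Submodule R C))) →ₗ[R ⧸ m.toIdeal] (R ⧸ m.toIdeal)) :
    C →ₗ[R] E' :=
  e ∘ₗ (lam.restrictScalars R) ∘ₗ (Submodule.mkQ (m.toIdeal • (⊤ : Submodule R C)))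

theorem homOfDual_apply
    (lam : (C ⧸ (m.toIdeal • (⊤ : Submodule R C))) →ₗ[R ⧸ m.toIdeal] (R ⧸ m.toIdeal)) (c : C) :
    homOfDual 𝒜 e lam c = e (lam (Submodule.Quotient.mk c)) := rfl

theorem smul_homOfDual
    (lam : (C ⧸ (m.toIdeal • (⊤ : Submodule R C))) →ₗ[R ⧸ m.toIdeal] (R ⧸ m.toIdeal))
    {r : R} (hr : r ∈ m.toIdeal) : r • homOfDual 𝒜 (C := C) e lam = 0 := by
  apply LinearMap.ext
  intro c
  rw [LinearMap.smul_apply, homOfDual_apply 𝒜, ← map_smul, smul_quot_eq_zero 𝒜 hr, map_zero,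
    LinearMap.zero_apply]

include he in
/-- `Φ` sends homs killed by `m` into the image of `R/m` -/
theorem Φ_mem_range [m.toIdeal.IsMaximal] (h : C →ₗ[R] E') (hh : ∀ r ∈ m.toIdeal, r • h = 0) :
    Φ h ∈ LinearMap.range e := by
  apply mem_range_of_smul_eq_zero 𝒜 𝓔 m e he.toIsStarEss
  intro r hr
  rw [← map_smul, hh r hr, map_zero]

include hpos hm hmsp he Φ in
/-- `C` is generated by one homogeneous element -/
theorem exists_gen [hmax : m.toIdeal.IsMaximal] :
    ∃ (a : ℤ) (c₀ : C), c₀ ∈ 𝒞 a ∧ Submodule.span R {c₀} = ⊤ := by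
  classical
  let _ : Field (R ⧸ m.toIdeal) := Ideal.Quotient.field m.toIdeal
  set mC : Submodule R C := m.toIdeal • (⊤ : Submodule R C) with hmC
  have he1 : e (Ideal.Quotient.mk m.toIdeal 1) ≠ 0 := by
    intro h0
    have h4 := he.injective (h0.trans (map_zero e).symm)
    rw [Ideal.Quotient.eq_zero_iff_mem] at h4
    exact ne_top_of_isStarLocal 𝒜 hm ((Ideal.eq_top_iff_one _).mpr h4)
  -- `mC ≠ ⊤`
  have hne : mC ≠ ⊤ := by
    intro htop
    have h1 : (⊥ : Submodule R C) = ⊤ :=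
      eq_top_of_sup_smul_eq_top 𝒜 hpos 𝒞 m.toIdeal hmsp ⊥
        (fun i x hx => by
          rw [Submodule.mem_bot] at hx
          rw [hx, decompose_zero]
          exact Submodule.zero_mem _) (by rw [bot_sup_eq]; exact htop)
    have h2 : ∀ c : C, c = 0 := by
      intro c
      have : c ∈ (⊤ : Submodule R C) := Submodule.mem_top
      rwa [← h1, Submodule.mem_bot] at this
    have h3 : Φ.symm (e (Ideal.Quotient.mk m.toIdeal 1)) = 0 := by
      apply LinearMap.ext
      intro c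
      rw [h2 c, map_zero, map_zero]
    apply he1
    rw [← Φ.apply_symm_apply (e (Ideal.Quotient.mk m.toIdeal 1)), h3, map_zero]
  -- a homogeneous element outside `mC`
  obtain ⟨a, c₀, hc₀, hc₀m⟩ : ∃ (a : ℤ) (c₀ : C), c₀ ∈ 𝒞 a ∧ c₀ ∉ mC := by
    by_contra hcon
    push Not at hcon
    apply hne
    rw [eq_top_iff]
    intro c _
    rw [← DirectSum.sum_support_decompose 𝒞 c]
    exact Submodule.sum_mem _ (fun i _ => hcon i _ (SetLike.coe_mem _))
  refine ⟨a, c₀, hc₀, ?_⟩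
  set π := Submodule.mkQ mC with hπ
  have hπc₀ : π c₀ ≠ 0 := by
    rw [hπ, Submodule.mkQ_apply, Ne, Submodule.Quotient.mk_eq_zero]
    exact hc₀m
  -- every class is a multiple of the class of `c₀`
  have claim : ∀ c : C, π c ∈ Submodule.span (R ⧸ m.toIdeal) {π c₀} := by
    intro c
    by_contra hc
    obtain ⟨lam, hlam1, hlam2⟩ := Submodule.exists_dual_map_eq_bot_of_notMem hc inferInstance
    have hlam3 : lam (π c₀) = 0 := by
      have : lam (π c₀) ∈ (Submodule.span (R ⧸ m.toIdeal) {π c₀}).map lam :=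
        ⟨π c₀, Submodule.subset_span rfl, rfl⟩
      rwa [hlam2, Submodule.mem_bot] at this
    obtain ⟨lam0, hlam0⟩ := Module.Projective.exists_dual_ne_zero (R ⧸ m.toIdeal) hπc₀
    obtain ⟨k, hk⟩ := Φ_mem_range 𝒜 𝓔 e he Φ (homOfDual 𝒜 e lam)
      (fun r hr => smul_homOfDual 𝒜 e lam hr)
    obtain ⟨k0, hk0⟩ := Φ_mem_range 𝒜 𝓔 e he Φ (homOfDual 𝒜 e lam0)
      (fun r hr => smul_homOfDual 𝒜 e lam0 hr)
    have hk_ne : k ≠ 0 := by
      intro hk00
      rw [hk00, map_zero] at hk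
      have h1 : homOfDual 𝒜 (C := C) e lam = 0 := by
        apply Φ.injective
        rw [← hk, map_zero]
      have h2 : homOfDual 𝒜 e lam c = 0 := by rw [h1, LinearMap.zero_apply]
      rw [homOfDual_apply] at h2
      have h3 := he.injective (h2.trans (map_zero e).symm)
      exact hlam1 h3
    obtain ⟨r, rfl⟩ := Ideal.Quotient.mk_surjective k
    obtain ⟨r0, rfl⟩ := Ideal.Quotient.mk_surjective k0
    have h1 : Φ (r0 • homOfDual 𝒜 e lam) = Φ (r • homOfDual 𝒜 e lam0) := by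
      rw [map_smul, map_smul, ← hk, ← hk0, smul_e, smul_e, mul_comm]
    have h2 := Φ.injective h1
    have h3 := LinearMap.congr_fun h2 c₀
    rw [LinearMap.smul_apply, LinearMap.smul_apply, homOfDual_apply, homOfDual_apply] at h3
    change r0 • e (lam (π c₀)) = r • e (lam0 (π c₀)) at h3
    rw [hlam3, map_zero, smul_zero, ← map_smul] at h3
    have h4 := he.injective (h3.symm.trans (map_zero e).symm)
    have h5 : r • lam0 (π c₀) = Ideal.Quotient.mk m.toIdeal r * lam0 (π c₀) := by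
      obtain ⟨s, hs⟩ := Ideal.Quotient.mk_surjective (lam0 (π c₀))
      rw [← hs]
      rfl
    rw [h5] at h4
    rcases mul_eq_zero.mp h4 with h6 | h6
    · exact hk_ne h6
    · exact hlam0 h6
  -- Nakayama
  apply eq_top_of_sup_smul_eq_top 𝒜 hpos 𝒞 m.toIdeal hmsp (Submodule.span R {c₀})
    (span_singleton_isHomogeneous 𝒜 𝒞 hc₀)
  rw [eq_top_iff]
  intro c _
  obtain ⟨k, hk⟩ := Submodule.mem_span_singleton.mp (claim c)
  obtain ⟨r, rfl⟩ := Ideal.Quotient.mk_surjective k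
  have h1 : π (c - r • c₀) = 0 := by
    rw [map_sub, ← hk]
    change Ideal.Quotient.mk m.toIdeal r • Submodule.Quotient.mk c₀ -
      Submodule.Quotient.mk (r • c₀) = 0
    rw [Module.Quotient.mk_smul_mk, sub_self]
  rw [hπ, Submodule.mkQ_apply, Submodule.Quotient.mk_eq_zero] at h1
  have h2 : c = r • c₀ + (c - r • c₀) := by abel
  rw [h2]
  exact Submodule.add_mem_sup (Submodule.smul_mem _ _ (Submodule.subset_span rfl)) h1

include hpos hm hmsp he Φ in
/-- **`C ≅ R(-a)`**: a bijective homogeneous map `R → C` -/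
theorem exists_bijective [hmax : m.toIdeal.IsMaximal] :
    ∃ (a : ℤ) (f : R →ₗ[R] C), Function.Bijective f ∧ GrLC.IsGrHomDeg 𝒜 𝒞 f a := by
  classical
  obtain ⟨a, c₀, hc₀, hspan⟩ := exists_gen 𝒜 hpos hm hmsp 𝓔 e he 𝒞 Φ
  refine ⟨a, LinearMap.toSpanSingleton R C c₀, ⟨?_, ?_⟩, ?_⟩
  · -- injective
    rw [← LinearMap.ker_eq_bot, eq_bot_iff]
    intro r hr
    rw [Submodule.mem_bot]
    have hr1 : r • c₀ = 0 := hr
    have hann : ((Submodule.span R {c₀}).annihilator).IsHomogeneous 𝒜 :=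
      annihilator_isHomogeneous 𝒜 𝒞 hc₀
    have hr2 : r ∈ (Submodule.span R {c₀}).annihilator := by
      rw [Submodule.mem_annihilator_span_singleton]
      exact hr1
    by_contra hr0
    -- a nonzero homogeneous component
    obtain ⟨d, hd⟩ : ∃ d : ℤ, (decompose 𝒜 r d : R) ≠ 0 := by
      by_contra hcon
      push Not at hcon
      apply hr0
      rw [← DirectSum.sum_support_decompose 𝒜 r]
      exact Finset.sum_eq_zero (fun i _ => hcon i)
    have hrd := hann d hr2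
    rw [hspan, Submodule.mem_annihilator] at hrd
    obtain ⟨x, hx⟩ := exists_smul_ne_zero 𝒜 𝓔 e hm he (SetLike.coe_mem (decompose 𝒜 r d)) hd
    apply hx
    rw [← Φ.apply_symm_apply x, ← map_smul]
    have : (decompose 𝒜 r d : R) • Φ.symm x = 0 := by
      apply LinearMap.ext
      intro c
      rw [LinearMap.smul_apply, ← map_smul, hrd c Submodule.mem_top, map_zero,
        LinearMap.zero_apply]
    rw [this, map_zero]
  · -- surjective
    intro c
    have : c ∈ Submodule.span R {c₀} := by rw [hspan]; exact Submodule.mem_top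
    obtain ⟨r, rfl⟩ := Submodule.mem_span_singleton.mp this
    exact ⟨r, rfl⟩
  · intro g r hr
    have := SetLike.GradedSMul.smul_mem (A := 𝒜) (B := 𝒞) hr hc₀
    rw [vadd_eq_add] at this
    exact this

end

end Groth.Agent.H98.Canon
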