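import Groth.Agent.H98.Canon.Cyclic
import Groth.Agent.H98.Bass0.GorTop2
import Groth.Agent.H98.GrHt.StarLocalDim

set_option autoImplicit false
universe u

/-!
# The *canonical module of a positively graded Gorenstein *local ring is a shifted copy of `R`
-/

namespace Groth.Agent.H98.Canon

open Groth.Agent.H98.GrStar Groth.Agent.H98.Bass0 Groth.Agent.H98.GrHt

theorem exists_bijective_of_gorenstein (R : Type u) [CommRing R] [LocCoh.IsGorensteinRing R]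
    (𝒜 : ℤ → AddSubgroup R) [GradedRing 𝒜] (hpos : ∀ n : ℤ, n < 0 → 𝒜 n = ⊥)
    (m : HomogeneousIdeal 𝒜) (hm : GrLC.IsStarLocal 𝒜 m)
    (hmsp : m.toIdeal = Ideal.span (⋃ n ∈ Set.Ioi (0 : ℤ), (𝒜 n : Set R)))
    (n : ℕ) (hn : ringKrullDim R = n) (I : GrLC.StarInjRes 𝒜 𝒜)
    (E' : Type u) [AddCommGroup E'] [Module R E'] (𝓔 : ℤ → AddSubgroup E')
    [DirectSum.Decomposition 𝓔] [SetLike.GradedSMul 𝒜 𝓔] (e : (R ⧸ m.toIdeal) →ₗ[R] E')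
    (he : GrLC.IsStarInjHull 𝒜 (GrLC.quotGr 𝒜 m) 𝓔 e)
    (C : Type u) [AddCommGroup C] [Module R C] (𝒞 : ℤ → AddSubgroup C)
    [DirectSum.Decomposition 𝒞] [SetLike.GradedSMul 𝒜 𝒞]
    (hC : GrLC.IsStarCanonical 𝒜 𝒞 𝓔 m n I) :
    ∃ (a : ℤ) (f : R →ₗ[R] C), Function.Bijective f ∧ GrLC.IsGrHomDeg 𝒜 𝒞 f a := by
  have h1 := height_eq_ringKrullDim_of_isStarLocal 𝒜 hpos hm
  rw [hn] at h1
  have hht : m.toIdeal.height = n := by exact_mod_cast h1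
  obtain ⟨g, ψ, _⟩ := exists_top_H_equiv R 𝒜 m hm n hht I E' 𝓔 e he
  obtain ⟨hfin, φ, _⟩ := hC
  haveI := hfin
  haveI := isMaximal_of_isStarLocal 𝒜 hpos hm
  exact exists_bijective 𝒜 (hpos_elt 𝒜 hpos) hm hmsp 𝓔 e he 𝒞 (φ.trans ψ)

end Groth.Agent.H98.Canon
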