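import Groth.Agent.H98.Canon.GorFwd
import Groth.Agent.H98.Canon.BassVanish
import Groth.Agent.H98.Canon.GorBwd
import Groth.Agent.H98.GrStar.Hull1

set_option autoImplicit false
universe u

/-!
# `K_R ≅ R(a)` implies Gorenstein (positively graded Cohen–Macaulay *local rings)
-/

namespace Groth.Agent.H98.Canon

open Groth.Agent.H98.GrStar Groth.Agent.H98.Bass0 Groth.Agent.H98.GrHt

section

variable {R : Type u} [CommRing R] (𝒜 : ℤ → AddSubgroup R) [GradedRing 𝒜]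
variable {C : Type u} [AddCommGroup C] [Module R C] (𝒞 : ℤ → AddSubgroup C)
  [DirectSum.Decomposition 𝒞] [SetLike.GradedSMul 𝒜 𝒞]

/-- the inverse of a bijective homogeneous map of degree `a` is homogeneous of degree `-a` -/
theorem symm_mem_of_isGrHomDeg (a : ℤ) (fe : R ≃ₗ[R] C)
    (hf : GrLC.IsGrHomDeg 𝒜 𝒞 fe.toLinearMap a) (g : ℤ) (c : C) (hc : c ∈ 𝒞 g) :
    fe.symm c ∈ 𝒜 (g - a) := by
  let B : GrLC.GMod.{u} 𝒜 := shiftGMod 𝒜 (GrLC.GMod.of 𝒜 C 𝒞) (-a)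
  let fe' : R ≃ₗ[R] B.carrier := fe
  have h1 : GrLC.IsGrHom 𝒜 B.gr fe'.toLinearMap := by
    intro k r hr
    change fe r ∈ 𝒞 (k - -a)
    rw [sub_neg_eq_add]
    exact hf k r hr
  have h2 := symm_isGrHom 𝒜 B.gr fe' h1 (g - a) c (by
    change c ∈ 𝒞 (g - a - -a)
    rw [sub_neg_eq_add, sub_add_cancel]
    exact hc)
  exact h2

end

theorem isGorensteinRing_of_exists_bijective (R : Type u) [CommRing R]
    [LocCoh.IsCohenMacaulayRing R]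
    (𝒜 : ℤ → AddSubgroup R) [GradedRing 𝒜] (hpos : ∀ n : ℤ, n < 0 → 𝒜 n = ⊥)
    (m : HomogeneousIdeal 𝒜) (hm : GrLC.IsStarLocal 𝒜 m)
    (n : ℕ) (hn : ringKrullDim R = n) (I : GrLC.StarInjRes 𝒜 𝒜)
    (E' : Type u) [AddCommGroup E'] [Module R E'] (𝓔 : ℤ → AddSubgroup E')
    [DirectSum.Decomposition 𝓔] [SetLike.GradedSMul 𝒜 𝓔]
    (hI : GrLC.IsStarInj 𝒜 𝓔)
    (C : Type u) [AddCommGroup C] [Module R C] (𝒞 : ℤ → AddSubgroup C)
    [DirectSum.Decomposition 𝒞] [SetLike.GradedSMul 𝒜 𝒞]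
    (hC : GrLC.IsStarCanonical 𝒜 𝒞 𝓔 m n I)
    (a : ℤ) (f : R →ₗ[R] C) (hf : Function.Bijective f) (hfg : GrLC.IsGrHomDeg 𝒜 𝒞 f a) :
    LocCoh.IsGorensteinRing R := by
  obtain ⟨_, φ, hφ⟩ := hC
  let fe : R ≃ₗ[R] C := LinearEquiv.ofBijective f hf
  have hfe : GrLC.IsGrHomDeg 𝒜 𝒞 fe.toLinearMap a := hfg
  let Ψ : E' ≃ₗ[R] I.H m n :=
    ((LinearMap.ringLmapEquivSelf R R E').symm.trans (LinearEquiv.congrLeft E' R fe)).trans φ
  have hΨ : ∀ k x, x ∈ 𝓔 k → Ψ x ∈ I.Hgr m n (k + -a) := by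
    intro k x hx
    apply hφ (k + -a)
    intro g c hc
    change (fe.symm c) • x ∈ 𝓔 (g + (k + -a))
    have h1 := symm_mem_of_isGrHomDeg 𝒜 𝒞 a fe hfe g c hc
    have h2 := SetLike.GradedSMul.smul_mem (A := 𝒜) (B := 𝓔) h1 hx
    rw [vadd_eq_add] at h2
    have : g - a + k = g + (k + -a) := by ring
    rw [this] at h2
    exact h2
  haveI hmax := isMaximal_of_isStarLocal 𝒜 hpos hm
  exact isGorensteinRing_of_bassNum 𝒜 hm n (fun i hi =>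
    bassNum_eq_zero_of_ne 𝒜 hpos hm n hn 𝓔 hI I (-a) Ψ hΨ i (ne_of_gt hi))

end Groth.Agent.H98.Canon
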