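import Groth.Agent.H98.GrStar.HighVanish
import Groth.Agent.H98.GrStar.EndDeg
import Groth.Agent.H98.GrStar.Self

set_option autoImplicit false
universe u

/-!
# `*H^0_m(R/m)` is `R/m`, concentrated in degree zero (positively graded rings, `m = R_+`)
-/

namespace Groth.Agent.H98.Canon

open Groth.Agent.H98.GrStar DirectSum

variable {R : Type u} [CommRing R] (𝒜 : ℤ → AddSubgroup R) [GradedRing 𝒜]
  (m : HomogeneousIdeal 𝒜) (hne : m.toIdeal ≠ ⊤)
  (hmsp : m.toIdeal = Ideal.span (⋃ n ∈ Set.Ioi (0 : ℤ), (𝒜 n : Set R)))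

include hne hmsp in
theorem endDeg_H0_quot (F : GrLC.StarInjRes 𝒜 (quotIdealGMod 𝒜 m).gr) :
    GrLC.endDeg (F.Hgr m 0) = (((0 : ℤ) : WithTop ℤ) : WithBot (WithTop ℤ)) := by
  apply le_antisymm
  · apply endDeg_le_of_forall
    intro g hg
    rw [eq_bot_iff]
    intro x hx
    rw [AddSubgroup.mem_bot]
    apply Hgr_zero_eq_zero F m g _ x hx
    rintro y ⟨s, hs, rfl⟩ _
    change Ideal.Quotient.mk m.toIdeal s = 0
    rw [Ideal.Quotient.eq_zero_iff_mem, hmsp]
    apply Ideal.subset_span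
    exact Set.mem_iUnion₂.mpr ⟨g, hg, hs⟩
  · apply le_endDeg
    intro hbot
    let y : (quotIdealGMod 𝒜 m).carrier := Ideal.Quotient.mk m.toIdeal 1
    have hy : y ∈ GrLC.gam m.toIdeal (quotIdealGMod 𝒜 m).carrier := by
      refine ⟨1, fun r hr => ?_⟩
      rw [pow_one] at hr
      change Ideal.Quotient.mk m.toIdeal (r * 1) = 0
      rw [Ideal.Quotient.eq_zero_iff_mem, mul_one]
      exact hr
    have hy0 : y ∈ (quotIdealGMod 𝒜 m).gr 0 := ⟨1, SetLike.GradedOne.one_mem (A := 𝒜), rfl⟩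
    have h1 := toH_ε_mem_Hgr F m 0 y hy hy0
    rw [hbot, AddSubgroup.mem_bot, Submodule.mkQ_apply, Submodule.Quotient.mk_eq_zero] at h1
    have h2 : F.ε y = 0 := h1
    have h3 := F.ε_injective (h2.trans (map_zero F.ε).symm)
    apply hne
    rw [Ideal.eq_top_iff_one]
    exact Ideal.Quotient.eq_zero_iff_mem.mp h3

end Groth.Agent.H98.Canon
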