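import Groth.Agent.H98.Canon.TopInj2
import Groth.Agent.H98.Canon.StarGV
import Groth.Agent.H98.Canon.BassVanish
import Groth.Agent.H98.Canon.GorBwd
import Groth.Agent.H98.Bass0.GorTop2
import Groth.Agent.H98.GrStar.Hull1
import Groth.Agent.H98.GrStar.Hull2

set_option autoImplicit false
universe u

/-!
# A Cohen–Macaulay ℤ-graded *local ring is Gorenstein iff `*H^n_m(R)` is *injective
-/

namespace Groth.Agent.H98.Canon

open Groth.Agent.H98.GrStar Groth.Agent.H98.Bass0 Groth.Agent.H98.GrHt DirectSum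

variable (R : Type u) [CommRing R] [LocCoh.IsCohenMacaulayRing R] (𝒜 : ℤ → AddSubgroup R)
  [GradedRing 𝒜] (m : HomogeneousIdeal 𝒜) (hm : GrLC.IsStarLocal 𝒜 m) (n : ℕ)
  (hn : m.toIdeal.height = n) (I : GrLC.StarInjRes 𝒜 𝒜)

include hm hn in
theorem exists_starInj_of_gorenstein [LocCoh.IsGorensteinRing R] :
    ∃ (X : GrLC.GMod.{u} 𝒜) (φ : I.H m n ≃ₗ[R] X.carrier),
      GrLC.IsStarInj 𝒜 X.gr ∧ GrLC.IsGrHom (I.Hgr m n) X.gr φ.toLinearMap := by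
  obtain ⟨E, e, he⟩ := exists_isStarInjHull 𝒜 (quotIdealGMod 𝒜 m).gr
  obtain ⟨g, φ, hφ⟩ := exists_top_H_equiv R 𝒜 m hm n hn I E.carrier E.gr e he
  refine ⟨shiftGMod 𝒜 E (-g), φ, ?_, ?_⟩
  · exact isStarInj_of_shift_equiv 𝒜 E.gr he.starInj (shiftGMod 𝒜 E (-g)) (-g)
      (LinearEquiv.refl R E.carrier) (fun _ _ => Iff.rfl)
  · intro k x hx
    change φ x ∈ E.gr (k - -g)
    rw [sub_neg_eq_add]
    exact hφ k x hx

include hm hn in
theorem isGorensteinRing_of_starInj (X : GrLC.GMod.{u} 𝒜) (φ : I.H m n ≃ₗ[R] X.carrier)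
    (hX : GrLC.IsStarInj 𝒜 X.gr) (hφ : GrLC.IsGrHom (I.Hgr m n) X.gr φ.toLinearMap) :
    LocCoh.IsGorensteinRing R := by
  classical
  haveI hprime : m.toIdeal.IsPrime := isPrime_of_isStarLocal 𝒜 hm
  let Y : GrLC.StarInjRes 𝒜 𝒜 := minRes 𝒜 𝒜
  have hE : IsMinimal Y := minRes_isMinimal 𝒜 𝒜
  have hlow : ∀ j, j < n → GrLC.gam m.toIdeal (Y.X j).carrier = ⊥ := by
    intro j hj
    apply gam_eq_bot_of_soc_eq_bot 𝒜 hm (Y.X j).gr
    have h1 : socLen m Y j = 0 := by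
      rw [← hE.bassNum_eq m j]
      exact bassNum_eq_zero_of_cm m.toIdeal n hn j hj
    rw [socLen, Module.length_eq_zero_iff] at h1
    exact (Submodule.subsingleton_iff_eq_bot).mp h1
  letI : DirectSum.Decomposition (I.Hgr m n) := (Hgr_isInternal 𝒜 𝒜 I m n).chooseDecomposition
  have hφs := symm_isGrHom (I.Hgr m n) X.gr φ hφ
  let Ψ : X.carrier ≃ₗ[R] Y.H m n := φ.symm.trans (resEquiv m I Y n)
  have hΨ : ∀ k x, x ∈ X.gr k → Ψ x ∈ Y.Hgr m n (k + 0) := by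
    intro k x hx
    rw [add_zero]
    exact resEquiv_isGrHom m I Y n k _ (hφs k x hx)
  have hA := d_eq_zero_of_mem_gam 𝒜 Y hE X.gr hX n (fun j hj => hlow j (by omega)) 0 Ψ hΨ
  have hgam := gam_eq_bot_of_gt' 𝒜 hm Y hE n
    (fun i hi => H_subsingleton_of_height_lt 𝒜 hm Y n hn i hi) hA
  apply isGorensteinRing_of_bassNum 𝒜 hm n
  intro i hi
  rw [hE.bassNum_eq m i, socLen, Module.length_eq_zero_iff,
    soc_eq_bot_of_gam_eq_bot m.toIdeal _ (hgam i hi)]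
  infer_instance

end Groth.Agent.H98.Canon
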