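import Groth.Agent.H98.Canon.HullSoc
import Groth.Agent.H98.GrHt.CMVanish
import Groth.Agent.H58.LCGV

set_option autoImplicit false
universe u

/-!
# If `*H^n_m(R)` is a shifted `*E(R/m)` then the Bass numbers `μ_i(m, R)` vanish for `i ≠ n`
(`R` Cohen–Macaulay, positively graded, *local of dimension `n`)
-/

namespace Groth.Agent.H98.Canon

open Groth.Agent.H98.GrStar Groth.Agent.H98.Bass0 Groth.Agent.H98.GrHt DirectSum

section Step

variable {R : Type u} [CommRing R] [IsNoetherianRing R] (𝒜 : ℤ → AddSubgroup R) [GradedRing 𝒜]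
  {m : HomogeneousIdeal 𝒜}
variable {M : Type u} [AddCommGroup M] [Module R M] {ℳ : ℤ → AddSubgroup M}
  [DirectSum.Decomposition ℳ] [SetLike.GradedSMul 𝒜 ℳ]
variable (X : GrLC.StarInjRes 𝒜 ℳ) (hE : IsMinimal X)

include hE in
/-- if `d^j` kills `Γ_m(X^j)` and `*H^{j+1}_m = 0` then `Γ_m(X^{j+1}) = 0` -/
theorem gam_succ_eq_bot [hmax : m.toIdeal.IsMaximal] (j : ℕ)
    (hQ : ∀ y ∈ GrLC.gam m.toIdeal (X.X j).carrier, X.d j y = 0)
    (hH : Subsingleton (X.H m (j + 1))) :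
    GrLC.gam m.toIdeal (X.X (j + 1)).carrier = ⊥ := by
  by_contra hne
  obtain ⟨g, z, _, hz0, hmz⟩ := exists_homogeneous_socle 𝒜 (X.X (j + 1)).gr hne
  obtain ⟨r, hr1, hr2⟩ := hE.ess (j + 1) z hz0
  have hr : r ∉ m.toIdeal := fun h => hr1 (hmz r h)
  obtain ⟨s, i, hi, hs⟩ := Ideal.IsMaximal.exists_inv hmax hr
  have hz1 : z = s • (r • z) := by
    calc z = (1 : R) • z := (one_smul R z).symm
      _ = (s * r + i) • z := by rw [hs]
      _ = s • (r • z) := by rw [add_smul, hmz i hi, add_zero, mul_smul]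
  have hzZ : z ∈ ZZ X (j + 1) := by
    rw [hz1]
    exact Submodule.smul_mem _ _ hr2
  have hzg : z ∈ GrLC.gam m.toIdeal (X.X (j + 1)).carrier :=
    ⟨1, fun r hr => hmz r (by rwa [pow_one] at hr)⟩
  have hzc : z ∈ X.cocyc m (j + 1) := ⟨hzg, hzZ⟩
  have h0 : X.toH m (j + 1) ⟨z, hzc⟩ = 0 := Subsingleton.elim _ _
  rw [Submodule.mkQ_apply, Submodule.Quotient.mk_eq_zero] at h0
  obtain ⟨y, hy, hyz⟩ := h0
  apply hz0
  change X.d j y = z at hyz
  rw [← hyz]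
  exact hQ y hy

include hE in
/-- vanishing of `Γ_m(X^i)` above `n` -/
theorem gam_eq_bot_of_gt [hmax : m.toIdeal.IsMaximal] (n : ℕ)
    (hvan : ∀ i, n < i → Subsingleton (X.H m i))
    (hA : ∀ y ∈ GrLC.gam m.toIdeal (X.X n).carrier, X.d n y = 0) :
    ∀ i, n < i → GrLC.gam m.toIdeal (X.X i).carrier = ⊥ := by
  intro i hi
  induction i, hi using Nat.le_induction with
  | base => exact gam_succ_eq_bot 𝒜 X hE n hA (hvan (n + 1) (Nat.lt_succ_self n))
  | succ i hi ih =>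
    apply gam_succ_eq_bot 𝒜 X hE i _ (hvan (i + 1) (by omega))
    intro y hy
    rw [ih, Submodule.mem_bot] at hy
    rw [hy, map_zero]

variable {E' : Type u} [AddCommGroup E'] [Module R E'] (𝓔 : ℤ → AddSubgroup E')
  [DirectSum.Decomposition 𝓔] [SetLike.GradedSMul 𝒜 𝓔]

include hE in
/-- if `*H^n_m` is a shifted *injective module and `Γ_m(X^{n-1}) = 0`, then `d^n` kills
`Γ_m(X^n)` -/
theorem d_eq_zero_of_mem_gam (hI : GrLC.IsStarInj 𝒜 𝓔) (n : ℕ)
    (hprev : ∀ j, j + 1 = n → GrLC.gam m.toIdeal (X.X j).carrier = ⊥)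
    (a : ℤ) (Ψ : E' ≃ₗ[R] X.H m n) (hΨ : ∀ k x, x ∈ 𝓔 k → Ψ x ∈ X.Hgr m n (k + a))
    (y : (X.X n).carrier) (hy : y ∈ GrLC.gam m.toIdeal (X.X n).carrier) : X.d n y = 0 := by
  have hbot : (X.cobdy m n).comap (X.cocyc m n).subtype = ⊥ := by
    rw [cobdy_eq_bot X m n hprev, Submodule.comap_bot]
    exact LinearMap.ker_eq_bot.mpr (Submodule.injective_subtype _)
  let q : X.H m n ≃ₗ[R] X.cocyc m n := Submodule.quotEquivOfEqBot _ hbot
  have hq : ∀ z : X.cocyc m n, q (X.toH m n z) = z := fun z =>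
    Submodule.quotEquivOfEqBot_apply_mk _ hbot z
  let j : E' →ₗ[R] (X.X n).carrier :=
    (X.cocyc m n).subtype ∘ₗ q.toLinearMap ∘ₗ Ψ.toLinearMap
  have hjinj : Function.Injective j :=
    (Submodule.injective_subtype _).comp (q.injective.comp Ψ.injective)
  have hjrange : ∀ z ∈ X.cocyc m n, ∃ x : E', j x = z := by
    intro z hz
    refine ⟨Ψ.symm (q.symm ⟨z, hz⟩), ?_⟩
    change ((q (Ψ (Ψ.symm (q.symm ⟨z, hz⟩))) : X.cocyc m n) : (X.X n).carrier) = z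
    rw [Ψ.apply_symm_apply, q.apply_symm_apply]
  have hjmem : ∀ x : E', j x ∈ X.cocyc m n := fun x => (q (Ψ x)).2
  let B : GrLC.GMod.{u} 𝒜 := shiftGMod 𝒜 (X.X n) (-a)
  have hjgr : GrLC.IsGrHom (GrLC.GMod.of 𝒜 E' 𝓔).gr B.gr j := by
    intro k x hx
    obtain ⟨z, hz, hzx⟩ := hΨ k x hx
    change ((q (Ψ x) : X.cocyc m n) : (X.X n).carrier) ∈ (X.X n).gr (k - -a)
    rw [← hzx, hq z, sub_neg_eq_add]
    exact hz
  obtain ⟨ρ, _, hρ⟩ := exists_ext_of_ker_le 𝒜 𝓔 hI (GrLC.GMod.of 𝒜 E' 𝓔) B j hjgr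
    LinearMap.id (fun _ _ h => h) (by
      intro x hx
      have hx' : j x = 0 := hx
      have : x = 0 := hjinj (hx'.trans (map_zero j).symm)
      rw [this]
      exact Submodule.zero_mem _)
  let ρ' : (X.X n).carrier →ₗ[R] E' := ρ
  have hρj : ∀ x : E', ρ' (j x) = x := fun x => LinearMap.congr_fun hρ x
  -- the difference
  set y' : (X.X n).carrier := y - j (ρ' y) with hy'
  have hy'0 : y' = 0 := by
    by_contra hne
    obtain ⟨r, hr1, hr2⟩ := hE.ess n y' hne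
    have hg : r • y' ∈ GrLC.gam m.toIdeal (X.X n).carrier :=
      Submodule.smul_mem _ _ (Submodule.sub_mem _ hy (hjmem (ρ' y)).1)
    obtain ⟨x, hx⟩ := hjrange (r • y') ⟨hg, hr2⟩
    have h1 : ρ' (r • y') = 0 := by
      rw [map_smul, hy', map_sub, hρj, sub_self, smul_zero]
    have h2 : x = 0 := by
      rw [← hρj x, hx, h1]
    apply hr1
    rw [← hx, h2, map_zero]
  have hyj : y = j (ρ' y) := sub_eq_zero.mp hy'0
  rw [hyj]
  exact (hjmem (ρ' y)).2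

end Step

end Groth.Agent.H98.Canon
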