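import Groth.Agent.H98.Canon.TopInj
import Groth.Agent.H98.Bass0.StarLocalSoc2

set_option autoImplicit false
universe u

/-!
# Vanishing of `Γ_m(X^i)` above `n` for a minimal *injective resolution over a general *local ring
-/

namespace Groth.Agent.H98.Canon

open Groth.Agent.H98.GrStar Groth.Agent.H98.Bass0 DirectSum

variable {ι : Type} [AddCommGroup ι] [DecidableEq ι]
variable {R : Type u} [CommRing R] [IsNoetherianRing R] (𝒜 : ι → AddSubgroup R) [GradedRing 𝒜]
  {m : HomogeneousIdeal 𝒜} (hm : GrLC.IsStarLocal 𝒜 m)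
variable {M : Type u} [AddCommGroup M] [Module R M] {ℳ : ι → AddSubgroup M}
  [DirectSum.Decomposition ℳ] [SetLike.GradedSMul 𝒜 ℳ]
variable (X : GrLC.StarInjRes 𝒜 ℳ) (hE : IsMinimal X)

include hE in
omit [IsNoetherianRing R] in
/-- a nonzero homogeneous element of `X^{j+1}` has a nonzero homogeneous multiple in the image of
`d^j` -/
theorem exists_homog_smul_mem_range (j : ℕ) {g : ι} {z : (X.X (j + 1)).carrier}
    (hz : z ∈ (X.X (j + 1)).gr g) (hz0 : z ≠ 0) :
    ∃ (d : ι) (r : R), r ∈ 𝒜 d ∧ r • z ≠ 0 ∧ r • z ∈ LinearMap.range (X.d j) := by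
  classical
  have hP : (Submodule.span R {z}).IsHomogeneous (X.X (j + 1)).gr :=
    span_singleton_isHomogeneous 𝒜 (X.X (j + 1)).gr hz
  have hPne : Submodule.span R {z} ≠ ⊥ := by
    rw [Ne, Submodule.span_singleton_eq_bot]; exact hz0
  obtain ⟨y, ⟨hy1, hy2⟩, hy0⟩ := (Submodule.ne_bot_iff _).mp (hE.succ j _ hP hPne)
  obtain ⟨r, rfl⟩ := Submodule.mem_span_singleton.mp hy1
  have hU : (LinearMap.range (X.d j)).IsHomogeneous (X.X (j + 1)).gr :=
    range_isHomogeneous (X.X j).gr (X.X (j + 1)).gr (X.d j) (X.d_grHom j)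
  by_contra hcon
  push Not at hcon
  apply hy0
  apply eq_zero_of_decompose_eq_zero (X.X (j + 1)).gr
  intro i
  have h1 := decompose_smul_of_mem 𝒜 (X.X (j + 1)).gr hz r (i - g)
  rw [sub_add_cancel] at h1
  rw [h1]
  by_contra hne
  apply hcon (i - g) _ (SetLike.coe_mem _) hne
  rw [← h1]
  exact hU i hy2

include hm hE in
/-- if `d^j` kills `Γ_m(X^j)` and `*H^{j+1}_m = 0` then `Γ_m(X^{j+1}) = 0` (general *local ring) -/
theorem gam_succ_eq_bot' (j : ℕ)
    (hQ : ∀ y ∈ GrLC.gam m.toIdeal (X.X j).carrier, X.d j y = 0)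
    (hH : Subsingleton (X.H m (j + 1))) :
    GrLC.gam m.toIdeal (X.X (j + 1)).carrier = ⊥ := by
  by_contra hne
  obtain ⟨g, z, hzg, hz0, hmz⟩ := exists_homogeneous_socle 𝒜 (X.X (j + 1)).gr hne
  obtain ⟨d, r, hr, hr1, hr2⟩ := exists_homog_smul_mem_range 𝒜 X hE j hzg hz0
  have hrm : r ∉ m.toIdeal := fun h => hr1 (hmz r h)
  obtain ⟨a, ha, b, hab⟩ := exists_mul_add_eq_one 𝒜 hm hr hrm
  have hz1 : z = b • (r • z) := by
    calc z = (1 : R) • z := (one_smul R z).symm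
      _ = (a + b * r) • z := by rw [hab]
      _ = b • (r • z) := by rw [add_smul, hmz a ha, zero_add, mul_smul]
  have hzZ : z ∈ LinearMap.ker (X.d (j + 1)) := by
    rw [X.exact_succ j, hz1]
    exact Submodule.smul_mem _ _ hr2
  have hzgam : z ∈ GrLC.gam m.toIdeal (X.X (j + 1)).carrier :=
    ⟨1, fun r hr => hmz r (by rwa [pow_one] at hr)⟩
  have hzc : z ∈ X.cocyc m (j + 1) := ⟨hzgam, hzZ⟩
  have h0 : X.toH m (j + 1) ⟨z, hzc⟩ = 0 := Subsingleton.elim _ _
  rw [Submodule.mkQ_apply, Submodule.Quotient.mk_eq_zero] at h0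
  obtain ⟨y, hy, hyz⟩ := h0
  apply hz0
  change X.d j y = z at hyz
  rw [← hyz]
  exact hQ y hy

include hm hE in
/-- vanishing of `Γ_m(X^i)` above `n` (general *local ring) -/
theorem gam_eq_bot_of_gt' (n : ℕ)
    (hvan : ∀ i, n < i → Subsingleton (X.H m i))
    (hA : ∀ y ∈ GrLC.gam m.toIdeal (X.X n).carrier, X.d n y = 0) :
    ∀ i, n < i → GrLC.gam m.toIdeal (X.X i).carrier = ⊥ := by
  intro i hi
  induction i, hi using Nat.le_induction with
  | base => exact gam_succ_eq_bot' 𝒜 hm X hE n hA (hvan (n + 1) (Nat.lt_succ_self n))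
  | succ i hi ih =>
    apply gam_succ_eq_bot' 𝒜 hm X hE i _ (hvan (i + 1) (by omega))
    intro y hy
    rw [ih, Submodule.mem_bot] at hy
    rw [hy, map_zero]

end Groth.Agent.H98.Canon
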