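import Groth.Agent.H98.Canon.GorFwd
import Groth.Agent.H98.Canon.GorIff
import Groth.Agent.H98.Canon.TopDeg
import Groth.Agent.H98.Canon.H0Quot
import Groth.Agent.H98.Canon.WPoly
import Groth.Agent.H98.GrStar.Res
import Groth.Agent.S18645

set_option autoImplicit false
universe u

/-!
# The *canonical module of a Gorenstein positively graded ring is `R(a(R))`; weighted polynomial rings
-/

namespace Groth.Agent.H98.Canon

open Groth.Agent.H98.GrStar Groth.Agent.H98.Bass0 Groth.Agent.H98.GrHt MvPolynomial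

/-- **`K_R ≅ R(a(R))`** for a positively graded Gorenstein *local ring -/
theorem exists_bijective_deg (R : Type u) [CommRing R] [LocCoh.IsGorensteinRing R]
    (𝒜 : ℤ → AddSubgroup R) [GradedRing 𝒜] (hpos : ∀ n : ℤ, n < 0 → 𝒜 n = ⊥)
    (m : HomogeneousIdeal 𝒜) (hm : GrLC.IsStarLocal 𝒜 m)
    (hmsp : m.toIdeal = Ideal.span (⋃ n ∈ Set.Ioi (0 : ℤ), (𝒜 n : Set R)))
    (n : ℕ) (hn : ringKrullDim R = n) (I : GrLC.StarInjRes 𝒜 𝒜)
    (E' : Type u) [AddCommGroup E'] [Module R E'] (𝓔 : ℤ → AddSubgroup E')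
    [DirectSum.Decomposition 𝓔] [SetLike.GradedSMul 𝒜 𝓔] (e : (R ⧸ m.toIdeal) →ₗ[R] E')
    (he : GrLC.IsStarInjHull 𝒜 (GrLC.quotGr 𝒜 m) 𝓔 e)
    (C : Type u) [AddCommGroup C] [Module R C] (𝒞 : ℤ → AddSubgroup C)
    [DirectSum.Decomposition 𝒞] [SetLike.GradedSMul 𝒜 𝒞]
    (hC : GrLC.IsStarCanonical 𝒜 𝒞 𝓔 m n I) (b : ℤ)
    (hb : GrLC.endDeg (I.Hgr m n) = ((b : WithTop ℤ) : WithBot (WithTop ℤ))) :
    ∃ f : R →ₗ[R] C, Function.Bijective f ∧ GrLC.IsGrHomDeg 𝒜 𝒞 f (-b) := by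
  obtain ⟨a, f, hf, hfg⟩ :=
    exists_bijective_of_gorenstein R 𝒜 hpos m hm hmsp n hn I E' 𝓔 e he C 𝒞 hC
  obtain ⟨_, φ, hφ⟩ := hC
  let fe : R ≃ₗ[R] C := LinearEquiv.ofBijective f hf
  have hfe : GrLC.IsGrHomDeg 𝒜 𝒞 fe.toLinearMap a := hfg
  let Ψ : E' ≃ₗ[R] I.H m n :=
    ((LinearMap.ringLmapEquivSelf R R E').symm.trans (LinearEquiv.congrLeft E' R fe)).trans φ
  have hΨ : ∀ k x, x ∈ 𝓔 k → Ψ x ∈ I.Hgr m n (k + -a) := by
    intro k x hx
    apply hφ (k + -a)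
    intro g c hc
    change (fe.symm c) • x ∈ 𝓔 (g + (k + -a))
    have h1 := symm_mem_of_isGrHomDeg 𝒜 𝒞 a fe hfe g c hc
    have h2 := SetLike.GradedSMul.smul_mem (A := 𝒜) (B := 𝓔) h1 hx
    rw [vadd_eq_add] at h2
    have : g - a + k = g + (k + -a) := by ring
    rw [this] at h2
    exact h2
  have h1 := endDeg_eq_of_hull_equiv 𝒜 (hpos_elt 𝒜 hpos) hm hmsp 𝓔 e he.toIsStarEss I n (-a) Ψ hΨ
  rw [hb] at h1
  have h2 : b = -a := by exact_mod_cast h1
  refine ⟨f, hf, ?_⟩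
  rw [h2, neg_neg]
  exact hfg

/-- the `a`-invariant of a positively graded Cohen–Macaulay ring whose irrelevant ideal is generated
by a homogeneous regular sequence `f_1, …, f_N`, `N = dim R`, is `-(deg f_1 + ⋯ + deg f_N)` -/
theorem endDeg_eq_neg_sum (R : Type u) [CommRing R] [LocCoh.IsCohenMacaulayRing R]
    (𝒜 : ℤ → AddSubgroup R) [GradedRing 𝒜] (hpos : ∀ n : ℤ, n < 0 → 𝒜 n = ⊥)
    (h0 : IsField (GrLC.deg0 𝒜)) (m : HomogeneousIdeal 𝒜) (hm : GrLC.IsStarLocal 𝒜 m)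
    (hmsp : m.toIdeal = Ideal.span (⋃ n ∈ Set.Ioi (0 : ℤ), (𝒜 n : Set R)))
    (N : ℕ) (hn : ringKrullDim R = N) (I : GrLC.StarInjRes 𝒜 𝒜)
    (f : Fin N → R) (deg : Fin N → ℤ) (hfdeg : ∀ i, f i ∈ 𝒜 (deg i))
    (hreg : RingTheory.Sequence.IsRegular R (List.ofFn f))
    (hspan : m.toIdeal = Ideal.span (Set.range f)) :
    GrLC.endDeg (I.Hgr m N) =
      (((-((Finset.univ : Finset (Fin N)).sum deg) : ℤ) : WithTop ℤ) : WithBot (WithTop ℤ)) := by
  let F : GrLC.StarInjRes 𝒜 (quotIdealGMod 𝒜 m).gr := res 𝒜 (quotIdealGMod 𝒜 m).gr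
  let π : R →ₗ[R] (quotIdealGMod 𝒜 m).carrier := quotMap 𝒜 m
  have hπ : GrLC.IsGrHom 𝒜 (quotIdealGMod 𝒜 m).gr π := fun g s hs => ⟨s, hs, rfl⟩
  have hπs : Function.Surjective π := quotMap_surjective 𝒜 m
  have hπk : LinearMap.ker π = Ideal.span (Set.range f) := (quotMap_ker 𝒜 m).trans hspan
  have h1 := Groth.Agent.S18645.result R 𝒜 hpos h0 m hm hmsp N hn I N le_rfl f deg hfdeg
    (fun i => by rw [hspan]; exact Ideal.subset_span ⟨i, rfl⟩)
    hreg (quotIdealGMod 𝒜 m).carrier (quotIdealGMod 𝒜 m).gr π hπ hπs hπk F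
  have h2 := endDeg_H0_quot 𝒜 m (ne_top_of_isStarLocal 𝒜 hm) hmsp F
  rw [Nat.sub_self] at h1
  rw [h2] at h1
  -- arithmetic in `WithBot (WithTop ℤ)`
  generalize hS : (Finset.univ : Finset (Fin N)).sum deg = S at h1 ⊢
  cases hx : GrLC.endDeg (I.Hgr m N) with
  | bot => rw [hx] at h1; simp at h1
  | coe x =>
    cases x with
    | top =>
      rw [hx] at h1
      rw [← WithBot.coe_add, WithBot.coe_eq_coe, WithTop.top_add] at h1
      exact absurd h1 WithTop.coe_ne_top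
    | coe x =>
      rw [hx] at h1
      have h2 : (0 : ℤ) = x + S := by exact_mod_cast h1
      have h3 : x = -S := by omega
      rw [h3]

section WPoly

variable (k : Type u) [Field k] (N : ℕ) (w : Fin N → ℤ) (hw : ∀ i, 0 < w i)

attribute [local instance] MvPolynomial.weightedGradedAlgebra

include hw in
theorem selfGr_eq_bot_of_neg (n : ℤ) (hn : n < 0) :
    selfGr (weightedHomogeneousSubmodule k w) n = ⊥ := by
  rw [eq_bot_iff]
  intro p hp
  rw [AddSubgroup.mem_bot]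
  exact eq_zero_of_mem_neg w hw n hn p hp

include hw in
theorem isField_deg0 : IsField (GrLC.deg0 (selfGr (weightedHomogeneousSubmodule k w))) where
  exists_pair_ne := ⟨0, 1, fun h => by
    have := congrArg Subtype.val h
    exact zero_ne_one this⟩
  mul_comm := mul_comm
  mul_inv_cancel := by
    rintro ⟨p, hp⟩ ha
    have hpC := eq_C_of_mem_zero w hw p hp
    have hc : coeff 0 p ≠ 0 := by
      intro h0
      apply ha
      apply Subtype.ext
      change p = 0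
      rw [hpC, h0, map_zero]
    refine ⟨⟨C (coeff 0 p)⁻¹, isWeightedHomogeneous_C w _⟩, ?_⟩
    apply Subtype.ext
    change p * C (coeff 0 p)⁻¹ = 1
    rw [hpC, coeff_C, if_pos rfl, ← C_mul, mul_inv_cancel₀ hc, C_1]

include hw in
/-- the `a`-invariant of the weighted polynomial ring is `-(w_1 + ⋯ + w_N)` -/
theorem endDeg_wpoly (m : HomogeneousIdeal (selfGr (weightedHomogeneousSubmodule k w)))
    (hm : GrLC.IsStarLocal (selfGr (weightedHomogeneousSubmodule k w)) m)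
    (hmsp : m.toIdeal = Ideal.span (⋃ n ∈ Set.Ioi (0 : ℤ),
      (selfGr (weightedHomogeneousSubmodule k w) n : Set (MvPolynomial (Fin N) k))))
    (I : GrLC.StarInjRes (selfGr (weightedHomogeneousSubmodule k w))
      (selfGr (weightedHomogeneousSubmodule k w))) :
    GrLC.endDeg (I.Hgr m N) =
      (((-((Finset.univ : Finset (Fin N)).sum w) : ℤ) : WithTop ℤ) : WithBot (WithTop ℤ)) := by
  haveI := isCohenMacaulayRing_mvPolynomial k N
  have hspan : m.toIdeal = Ideal.span (Set.range (X : Fin N → MvPolynomial (Fin N) k)) := by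
    rw [hmsp]
    exact span_pos_eq_span_X w hw
  exact endDeg_eq_neg_sum (MvPolynomial (Fin N) k) (selfGr (weightedHomogeneousSubmodule k w))
    (selfGr_eq_bot_of_neg k N w hw) (isField_deg0 k N w hw) m hm hmsp N
    (ringKrullDim_mvPolynomial_fin k N) I X w (fun i => isWeightedHomogeneous_X k w i)
    (isRegular_X k N) hspan

end WPoly

end Groth.Agent.H98.Canon
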