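import Groth.Agent.H98.Canon.WPolyCanon

set_option autoImplicit false
universe u

/-!
# The canonical module of the weighted polynomial ring is `R(-(w_1 + ⋯ + w_N))`
-/

namespace Groth.Agent.H98.Canon

open Groth.Agent.H98.GrStar MvPolynomial

attribute [local instance] MvPolynomial.weightedGradedAlgebra

theorem wpoly_canonical (k : Type u) [Field k] (N : ℕ) (w : Fin N → ℤ) (hw : ∀ i, 0 < w i)
    (m : HomogeneousIdeal (MvPolynomial.weightedHomogeneousSubmodule k w))
    (hm : GrLC.IsStarLocal (MvPolynomial.weightedHomogeneousSubmodule k w) m)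
    (hmsp : m.toIdeal = Ideal.span (⋃ n ∈ Set.Ioi (0 : ℤ),
      (MvPolynomial.weightedHomogeneousSubmodule k w n : Set (MvPolynomial (Fin N) k))))
    (I : GrLC.StarInjRes (MvPolynomial.weightedHomogeneousSubmodule k w)
      (MvPolynomial.weightedHomogeneousSubmodule k w))
    (E' : Type u) [AddCommGroup E'] [Module (MvPolynomial (Fin N) k) E'] (𝓔 : ℤ → AddSubgroup E')
    [DirectSum.Decomposition 𝓔]
    [SetLike.GradedSMul (MvPolynomial.weightedHomogeneousSubmodule k w) 𝓔]
    (e : (MvPolynomial (Fin N) k ⧸ m.toIdeal) →ₗ[MvPolynomial (Fin N) k] E')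
    (he : GrLC.IsStarInjHull (MvPolynomial.weightedHomogeneousSubmodule k w)
      (GrLC.quotGr (MvPolynomial.weightedHomogeneousSubmodule k w) m) 𝓔 e)
    (C : Type u) [AddCommGroup C] [Module (MvPolynomial (Fin N) k) C] (𝒞 : ℤ → AddSubgroup C)
    [DirectSum.Decomposition 𝒞]
    [SetLike.GradedSMul (MvPolynomial.weightedHomogeneousSubmodule k w) 𝒞]
    (hC : GrLC.IsStarCanonical (MvPolynomial.weightedHomogeneousSubmodule k w) 𝒞 𝓔 m N I) :
    ∃ f : MvPolynomial (Fin N) k →ₗ[MvPolynomial (Fin N) k] C, Function.Bijective f ∧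
      GrLC.IsGrHomDeg (MvPolynomial.weightedHomogeneousSubmodule k w) 𝒞 f
        ((Finset.univ : Finset (Fin N)).sum w) := by
  haveI := isGorensteinRing_mvPolynomial k N
  haveI : SetLike.GradedSMul (selfGr (weightedHomogeneousSubmodule k w)) 𝓔 :=
    gradedSMul_toSelf (weightedHomogeneousSubmodule k w) 𝓔
  haveI : SetLike.GradedSMul (selfGr (weightedHomogeneousSubmodule k w)) 𝒞 :=
    gradedSMul_toSelf (weightedHomogeneousSubmodule k w) 𝒞
  have hm' := isStarLocal_toSelf (weightedHomogeneousSubmodule k w) hm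
  have hmsp' : (toSelfIdeal (weightedHomogeneousSubmodule k w) m).toIdeal =
      Ideal.span (⋃ n ∈ Set.Ioi (0 : ℤ),
        (selfGr (weightedHomogeneousSubmodule k w) n : Set (MvPolynomial (Fin N) k))) := hmsp
  have he' := isStarInjHull_toSelf (weightedHomogeneousSubmodule k w) m 𝓔 e he
  have hC' := isStarCanonical_toSelf (weightedHomogeneousSubmodule k w) m 𝓔 𝒞 N I hC
  have hb := endDeg_wpoly k N w hw (toSelfIdeal (weightedHomogeneousSubmodule k w) m) hm' hmsp'
    (resToSelf (weightedHomogeneousSubmodule k w) I)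
  obtain ⟨f, hf, hfg⟩ := exists_bijective_deg (MvPolynomial (Fin N) k)
    (selfGr (weightedHomogeneousSubmodule k w)) (selfGr_eq_bot_of_neg k N w hw)
    (toSelfIdeal (weightedHomogeneousSubmodule k w) m) hm' hmsp' N
    (ringKrullDim_mvPolynomial_fin k N) (resToSelf (weightedHomogeneousSubmodule k w) I)
    E' 𝓔 e he' C 𝒞 hC' (-((Finset.univ : Finset (Fin N)).sum w)) hb
  refine ⟨f, hf, ?_⟩
  rw [neg_neg] at hfg
  exact fun g r hr => hfg g r hr

end Groth.Agent.H98.Canon
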